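import Mathlib.RingTheory.Ideal.AssociatedPrime.Finiteness
import Mathlib.RingTheory.Flat.Basic
import Mathlib.RingTheory.LocalRing.ResidueField.Basic
import Mathlib.RingTheory.Nakayama
import Mathlib.LinearAlgebra.DirectSum.Finsupp
import Mathlib.LinearAlgebra.FreeModule.Basic
import Mathlib.LinearAlgebra.Basis.VectorSpace
import Mathlib.Algebra.Module.Torsion.Basic
import Mathlib.RingTheory.Ideal.Quotient.Operations

/-!
Associated maximal ideal of `N ⊗ E` for `N` flat over the base.
-/

universe u

open TensorProduct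

namespace Groth.Agent.H52.Ass.FlatTensor

/-- The maximal ideal is associated to `M`. -/
def HasAss (R : Type*) [CommRing R] [IsLocalRing R] (M : Type*) [AddCommGroup M] [Module R M] : Prop :=
  IsAssociatedPrime (IsLocalRing.maximalIdeal R) M

section

variable {R : Type*} [CommRing R] [IsLocalRing R] {M M' : Type*} [AddCommGroup M] [Module R M]
  [AddCommGroup M'] [Module R M']

theorem hasAss_of_socle {v : M} (hv : v ≠ 0) (h : ∀ a ∈ IsLocalRing.maximalIdeal R, a • v = 0) :
    HasAss R M := by
  refine ⟨inferInstance, v, ?_⟩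
  have hc : (⊥ : Submodule R M).colon {v} = IsLocalRing.maximalIdeal R := by
    refine le_antisymm (IsLocalRing.le_maximalIdeal fun ht => hv ?_)
      (fun a ha => Submodule.mem_colon_singleton.mpr ((Submodule.mem_bot R).mpr (h a ha)))
    have := (Ideal.eq_top_iff_one _).mp ht
    rwa [Submodule.mem_colon_singleton, Submodule.mem_bot, one_smul] at this
  rw [hc, Ideal.IsPrime.radical inferInstance]

theorem exists_socle_of_pow [IsNoetherianRing R] {v : M} (hv : v ≠ 0) {n : ℕ}
    (h : ∀ a ∈ IsLocalRing.maximalIdeal R ^ n, a • v = 0) :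
    ∃ w : M, w ≠ 0 ∧ (∀ a ∈ IsLocalRing.maximalIdeal R, a • w = 0) ∧ ∃ c : R, w = c • v := by
  induction n generalizing v with
  | zero => exact absurd (by simpa using h 1 (by simp)) hv
  | succ n ih =>
    by_cases h0 : ∀ a ∈ IsLocalRing.maximalIdeal R ^ n, a • v = 0
    · exact ih hv h0
    · push Not at h0
      obtain ⟨a, ha, hav⟩ := h0
      refine ⟨a • v, hav, fun b hb => ?_, a, rfl⟩
      rw [← mul_smul]
      exact h _ (by rw [pow_succ']; exact Ideal.mul_mem_mul hb ha)

theorem exists_socle [IsNoetherianRing R] (h : HasAss R M) :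
    ∃ v : M, v ≠ 0 ∧ ∀ a ∈ IsLocalRing.maximalIdeal R, a • v = 0 := by
  obtain ⟨hp, v, hv⟩ := h
  have hv0 : v ≠ 0 := by
    rintro rfl
    exact hp.ne_top (eq_top_iff.mpr fun z _ => by
      rw [hv]; exact Ideal.le_radical (Submodule.mem_colon_singleton.mpr (by simp)))
  obtain ⟨n, hn⟩ := Ideal.exists_radical_pow_le_of_fg ((⊥ : Submodule R M).colon {v}) (by
    rw [← hv]; exact IsNoetherian.noetherian _)
  rw [← hv] at hn
  obtain ⟨w, hw, hw', -⟩ := exists_socle_of_pow hv0 (n := n) fun a ha => by
    simpa [Submodule.mem_colon_singleton] using hn ha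
  exact ⟨w, hw, hw'⟩

theorem hasAss_of_injective [IsNoetherianRing R] (f : M →ₗ[R] M') (hf : Function.Injective f)
    (h : HasAss R M) : HasAss R M' := by
  obtain ⟨v, hv, hv'⟩ := exists_socle h
  exact hasAss_of_socle ((map_ne_zero_iff f hf).mpr hv) fun a ha => by rw [← map_smul, hv' a ha, map_zero]

theorem hasAss_congr [IsNoetherianRing R] (e : M ≃ₗ[R] M') : HasAss R M ↔ HasAss R M' :=
  ⟨hasAss_of_injective e.toLinearMap e.injective, hasAss_of_injective e.symm.toLinearMap e.symm.injective⟩

/-- Without associated maximal ideal there is a regular element in the maximal ideal. -/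
theorem exists_regular [IsNoetherianRing R] [Module.Finite R M] (h : ¬ HasAss R M) :
    ∃ a ∈ IsLocalRing.maximalIdeal R, IsSMulRegular M a := by
  by_contra! hall
  have hzd : ∀ a ∈ IsLocalRing.maximalIdeal R, a ∈ ⋃ p ∈ associatedPrimes R M, (p : Set R) := by
    intro a ha
    rw [biUnion_associatedPrimes_eq_zero_divisors]
    by_contra hreg
    simp only [Set.mem_ofPred_eq, not_exists, not_and] at hreg
    exact hall a ha (isSMulRegular_iff_right_eq_zero_of_smul.mpr fun x hx => by
      by_contra hne; exact hreg x hne hx)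
  obtain ⟨P, hP, hle⟩ := (Ideal.subset_union_prime_finite (associatedPrimes.finite R M)
    (f := fun p => p) (IsLocalRing.maximalIdeal R) (IsLocalRing.maximalIdeal R)
    fun p hp _ _ => hp.1).mp hzd
  obtain rfl := le_antisymm hle (IsLocalRing.le_maximalIdeal hP.1.ne_top)
  exact h hP

end

noncomputable section

variable {R S : Type u} [CommRing R] [IsLocalRing R] [IsNoetherianRing R] [CommRing S] [IsLocalRing S]
  [IsNoetherianRing S] [Algebra R S] [IsLocalHom (algebraMap R S)]
  {N : Type u} [AddCommGroup N] [Module R N] [Module S N] [IsScalarTower R S N]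
  {E : Type u} [AddCommGroup E] [Module R E]

/-- The extension of the maximal ideal of the base. -/
abbrev mS (R S : Type u) [CommRing R] [IsLocalRing R] [CommRing S] [Algebra R S] : Ideal S :=
  (IsLocalRing.maximalIdeal R).map (algebraMap R S)

theorem exists_fibreEquiv (R S N : Type u) [CommRing R] [IsLocalRing R] [CommRing S] [Algebra R S]
    [AddCommGroup N] [Module R N] [Module S N] [IsScalarTower R S N] :
    Nonempty ((N ⊗[R] (R ⧸ IsLocalRing.maximalIdeal R)) ≃ₗ[S] N ⧸ (mS R S • (⊤ : Submodule S N))) := by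
  let T : Submodule S N := mS R S • ⊤
  let k := R ⧸ IsLocalRing.maximalIdeal R
  let fw : N →ₗ[S] N ⊗[R] k :=
    { toFun := fun n => n ⊗ₜ 1
      map_add' := fun x y => TensorProduct.add_tmul x y 1
      map_smul' := fun s n => (TensorProduct.smul_tmul' s n 1).symm }
  have hle : T ≤ LinearMap.ker fw := by
    refine Submodule.smul_le.mpr fun r hr n _ => ?_
    rw [LinearMap.mem_ker]
    induction hr using Submodule.span_induction generalizing n with
    | mem r hr =>
      obtain ⟨a, ha, rfl⟩ := hr
      show (algebraMap R S a • n) ⊗ₜ[R] (1 : k) = 0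
      rw [algebraMap_smul, TensorProduct.smul_tmul, Algebra.smul_def, mul_one,
        Ideal.Quotient.algebraMap_eq, Ideal.Quotient.eq_zero_iff_mem.mpr ha, TensorProduct.tmul_zero]
    | zero => rw [zero_smul, map_zero]
    | add a b _ _ ha hb => rw [add_smul, map_add, ha n trivial, hb n trivial, add_zero]
    | smul c r _ hr' => rw [smul_eq_mul, mul_smul, map_smul, hr' n trivial, smul_zero]
  let g : N ⧸ T →ₗ[S] N ⊗[R] k := T.liftQ fw hle
  refine ⟨(LinearEquiv.ofBijective g ⟨?_, ?_⟩).symm⟩
  · let bk : N →ₗ[R] k →ₗ[R] N ⧸ T := LinearMap.mk₂ R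
      (fun n c => Quotient.liftOn' c (fun r => r • T.mkQ n) fun a b hab => by
        rw [Submodule.quotientRel_def] at hab
        rw [← sub_eq_zero, ← sub_smul, ← LinearMap.map_smul_of_tower, Submodule.mkQ_apply,
          Submodule.Quotient.mk_eq_zero, ← algebraMap_smul S]
        exact Submodule.smul_mem_smul (Ideal.mem_map_of_mem _ hab) Submodule.mem_top)
      (fun x y c => by induction c using Quotient.inductionOn'; simp [smul_add])
      (fun r x c => by
        induction c using Quotient.inductionOn' with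
        | h a => simp only [Quotient.liftOn'_mk'', LinearMap.map_smul_of_tower]; rw [smul_comm])
      (fun x c d => by
        induction c using Quotient.inductionOn' with
        | h a => induction d using Quotient.inductionOn' with
          | h b => exact add_smul a b _)
      (fun r x c => by
        induction c using Quotient.inductionOn' with
        | h a => exact mul_smul r a _)
    have hinv : ∀ z, TensorProduct.lift bk (g z) = z := by
      intro z
      obtain ⟨n, rfl⟩ := T.mkQ_surjective z
      show bk n 1 = T.mkQ n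
      exact one_smul R _
    exact Function.LeftInverse.injective hinv
  · intro z
    induction z using TensorProduct.induction_on with
    | zero => exact ⟨0, map_zero _⟩
    | add x y hx hy =>
      obtain ⟨a, rfl⟩ := hx; obtain ⟨b, rfl⟩ := hy
      exact ⟨a + b, map_add _ _ _⟩
    | tmul n c =>
      obtain ⟨r, rfl⟩ := Ideal.Quotient.mk_surjective c
      refine ⟨T.mkQ (r • n), ?_⟩
      show (r • n) ⊗ₜ[R] (1 : k) = _
      rw [TensorProduct.smul_tmul, Algebra.smul_def, mul_one]
      rfl

omit [IsLocalRing R] [IsNoetherianRing R] [IsLocalRing S] [IsNoetherianRing S] [IsLocalHom (algebraMap R S)] in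
theorem algebraMap_smul_tensor (a : R) (z : N ⊗[R] E) : algebraMap R S a • z = a • z := by
  induction z using TensorProduct.induction_on with
  | zero => rw [smul_zero, smul_zero]
  | tmul n e => rw [TensorProduct.smul_tmul', algebraMap_smul, TensorProduct.smul_tmul']
  | add x y hx hy => rw [smul_add, smul_add, hx, hy]

omit [IsNoetherianRing R] [IsNoetherianRing S] in
theorem map_mem_maximal {a : R} (ha : a ∈ IsLocalRing.maximalIdeal R) :
    algebraMap R S a ∈ IsLocalRing.maximalIdeal S :=
  fun hu => ha (isUnit_of_map_unit _ _ hu)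

theorem hasAss_fibre_of_killed [Module.Flat R N] (n : ℕ) : ∀ (F : Type u) [AddCommGroup F] [Module R F]
    [Module.Finite R F], (∀ a ∈ IsLocalRing.maximalIdeal R ^ n, ∀ x : F, a • x = 0) →
    HasAss S (N ⊗[R] F) → HasAss S (N ⧸ (mS R S • (⊤ : Submodule S N))) := by
  induction n with
  | zero =>
    intro F _ _ _ hF h
    obtain ⟨v, hv, -⟩ := exists_socle h
    have : Subsingleton F := subsingleton_of_forall_eq 0 fun x => by simpa using hF 1 (by simp) x
    exact absurd (Subsingleton.elim v 0) hv
  | succ n ih =>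
    intro F _ _ _ hF h
    obtain ⟨v, hv, hv'⟩ := exists_socle h
    let m := IsLocalRing.maximalIdeal R
    let F' : Submodule R F := m • ⊤
    let q : N ⊗[R] F →ₗ[S] N ⊗[R] (F ⧸ F') := AlgebraTensorModule.lTensor S N F'.mkQ
    have hexact : Function.Exact (F'.subtype.lTensor N) (F'.mkQ.lTensor N) :=
      lTensor_exact N (LinearMap.exact_subtype_mkQ F') F'.mkQ_surjective
    by_cases hq : q v = 0
    · obtain ⟨w, hw⟩ := (hexact v).mp hq
      let i : N ⊗[R] F' →ₗ[S] N ⊗[R] F := AlgebraTensorModule.lTensor S N F'.subtype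
      have hi : Function.Injective i :=
        Module.Flat.lTensor_preserves_injective_linearMap F'.subtype F'.injective_subtype
      refine ih F' (fun a ha x => Subtype.ext ?_) (hasAss_of_socle (v := w)
        (fun h0 => hv (by rw [← hw, h0, map_zero])) fun a ha => hi (by
          rw [map_smul, map_zero]; show a • (F'.subtype.lTensor N w) = 0; rw [hw, hv' a ha]))
      obtain ⟨x, hx⟩ := x
      show a • x = 0
      refine Submodule.smul_induction_on hx (fun b hb y _ => ?_) fun y z hy hz => by
        rw [smul_add, hy, hz, add_zero]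
      rw [← mul_smul]
      exact hF _ (by rw [pow_succ]; exact Ideal.mul_mem_mul ha hb) y
    · let _ : Field (R ⧸ m) := Ideal.Quotient.field m
      have hT : Module.IsTorsionBySet R (F ⧸ F') (m : Set R) := by
        intro z a
        obtain ⟨x, rfl⟩ := F'.mkQ_surjective z
        rw [← map_smul, Submodule.mkQ_apply, Submodule.Quotient.mk_eq_zero]
        exact Submodule.smul_mem_smul a.2 Submodule.mem_top
      let _ : Module (R ⧸ m) (F ⧸ F') := hT.module
      have : IsScalarTower R (R ⧸ m) (F ⧸ F') := hT.isScalarTower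
      classical
      let e : (F ⧸ F') ≃ₗ[R] _ →₀ (R ⧸ m) :=
        (Module.Free.chooseBasis (R ⧸ m) (F ⧸ F')).repr.restrictScalars R
      let Φ : N ⊗[R] (F ⧸ F') ≃ₗ[S] _ →₀ N ⊗[R] (R ⧸ m) :=
        (AlgebraTensorModule.congr (LinearEquiv.refl S N) e).trans (TensorProduct.finsuppRight R S N (R ⧸ m) _)
      have hne : Φ (q v) ≠ 0 := fun h0 => hq (Φ.injective (by rw [h0, map_zero]))
      obtain ⟨i, hi⟩ : ∃ i, Φ (q v) i ≠ 0 := by
        by_contra! h0
        exact hne (Finsupp.ext fun i => by simpa using h0 i)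
      obtain ⟨f⟩ := exists_fibreEquiv R S N
      exact (hasAss_congr f).mp (hasAss_of_socle hi fun a ha => by
        rw [← Finsupp.smul_apply, ← map_smul, ← map_smul, hv' a ha, map_zero, map_zero, Finsupp.zero_apply])

theorem hasAss_tensor_iff [Module.Flat R N] :
    HasAss S (N ⊗[R] E) ↔ HasAss R E ∧ HasAss S (N ⧸ (mS R S • (⊤ : Submodule S N))) := by
  constructor
  · intro h
    obtain ⟨v, hv, hv'⟩ := exists_socle h
    -- reduce to a finite module
    obtain ⟨E0, hE0, w, hw⟩ : ∃ E0 : Submodule R E, E0.FG ∧ ∃ w : N ⊗[R] E0, E0.subtype.lTensor N w = v := by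
      clear hv hv'
      induction v using TensorProduct.induction_on with
      | zero => exact ⟨⊥, Submodule.fg_bot, 0, map_zero _⟩
      | tmul n e =>
        exact ⟨Submodule.span R {e}, Submodule.fg_span_singleton e,
          n ⊗ₜ ⟨e, Submodule.mem_span_singleton_self e⟩, rfl⟩
      | add x y hx hy =>
        obtain ⟨A, hA, a, rfl⟩ := hx
        obtain ⟨B, hB, b, rfl⟩ := hy
        refine ⟨A ⊔ B, hA.sup hB, (Submodule.inclusion le_sup_left).lTensor N a +
          (Submodule.inclusion le_sup_right).lTensor N b, ?_⟩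
        rw [map_add, ← LinearMap.lTensor_comp_apply, ← LinearMap.lTensor_comp_apply]
        rfl
    have : Module.Finite R E0 := Module.Finite.iff_fg.mpr hE0
    let i0 : N ⊗[R] E0 →ₗ[S] N ⊗[R] E := AlgebraTensorModule.lTensor S N E0.subtype
    have hi0 : Function.Injective i0 :=
      Module.Flat.lTensor_preserves_injective_linearMap E0.subtype E0.injective_subtype
    have hw0 : w ≠ 0 := fun h0 => hv (by rw [← hw, h0, map_zero])
    have hw' : ∀ a ∈ IsLocalRing.maximalIdeal S, a • w = 0 := fun a ha => hi0 (by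
      rw [map_smul, map_zero]; show a • (E0.subtype.lTensor N w) = 0; rw [hw, hv' a ha])
    let Γ : Submodule R E0 :=
      { carrier := {x | ∃ n : ℕ, ∀ a ∈ IsLocalRing.maximalIdeal R ^ n, a • x = 0}
        zero_mem' := ⟨0, fun _ _ => smul_zero _⟩
        add_mem' := fun {x y} ⟨n, hx⟩ ⟨k, hy⟩ => ⟨n + k, fun a ha => by
          rw [smul_add, hx a (Ideal.pow_le_pow_right (Nat.le_add_right n k) ha),
            hy a (Ideal.pow_le_pow_right (Nat.le_add_left k n) ha), add_zero]⟩
        smul_mem' := fun c x ⟨n, hx⟩ => ⟨n, fun a ha => by rw [smul_comm, hx a ha, smul_zero]⟩ }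
    obtain ⟨n, hn⟩ : ∃ n : ℕ, ∀ a ∈ IsLocalRing.maximalIdeal R ^ n, ∀ x : Γ, a • x = 0 := by
      obtain ⟨G, hG⟩ := IsNoetherian.noetherian Γ
      have : ∀ x ∈ G, ∃ n : ℕ, ∀ a ∈ IsLocalRing.maximalIdeal R ^ n, a • x = 0 := fun x hx =>
        show x ∈ Γ from hG ▸ Submodule.subset_span hx
      choose k hk using this
      refine ⟨G.attach.sup fun x => k x.1 x.2, fun a ha => ?_⟩
      rintro ⟨x, hx⟩
      refine Subtype.ext ?_
      show a • x = 0
      rw [← hG] at hx
      induction hx using Submodule.span_induction with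
      | mem y hy =>
        exact hk y hy a (Ideal.pow_le_pow_right (Finset.le_sup (f := fun x => k x.1 x.2)
          (Finset.mem_attach G ⟨y, hy⟩)) ha)
      | zero => exact smul_zero _
      | add y z _ _ hy hz => rw [smul_add, hy, hz, add_zero]
      | smul c y _ hy => rw [smul_comm, hy, smul_zero]
    have hnoass : ¬ HasAss R (E0 ⧸ Γ) := by
      intro h'
      obtain ⟨z, hz, hz'⟩ := exists_socle h'
      obtain ⟨x, rfl⟩ := Γ.mkQ_surjective z
      refine hz ?_
      rw [Submodule.mkQ_apply, Submodule.Quotient.mk_eq_zero]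
      refine ⟨n + 1, fun a ha => ?_⟩
      rw [pow_succ] at ha
      refine Submodule.mul_induction_on ha (fun b hb c hc => ?_) fun b c hb hc => by
        rw [add_smul, hb, hc, add_zero]
      rw [mul_smul]
      have hcx := hz' c hc
      rw [← map_smul, Submodule.mkQ_apply, Submodule.Quotient.mk_eq_zero] at hcx
      exact congrArg Subtype.val (hn b hb ⟨c • x, hcx⟩)
    obtain ⟨a, ha, hreg⟩ := exists_regular hnoass
    have hq : Γ.mkQ.lTensor N w = 0 := by
      let μ : (E0 ⧸ Γ) →ₗ[R] (E0 ⧸ Γ) := a • LinearMap.id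
      have hμ : Function.Injective (μ.lTensor N) :=
        Module.Flat.lTensor_preserves_injective_linearMap μ hreg
      refine hμ ?_
      rw [map_zero, LinearMap.lTensor_smul, LinearMap.lTensor_id, LinearMap.smul_apply, LinearMap.id_apply,
        ← map_smul, ← algebraMap_smul_tensor (S := S), hw' _ (map_mem_maximal ha), map_zero]
    obtain ⟨z, hz⟩ := (lTensor_exact N (LinearMap.exact_subtype_mkQ Γ) Γ.mkQ_surjective w).mp hq
    let i1 : N ⊗[R] Γ →ₗ[S] N ⊗[R] E0 := AlgebraTensorModule.lTensor S N Γ.subtype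
    have hi1 : Function.Injective i1 :=
      Module.Flat.lTensor_preserves_injective_linearMap Γ.subtype Γ.injective_subtype
    have hz0 : z ≠ 0 := fun h0 => hw0 (by rw [← hz, h0, map_zero])
    refine ⟨?_, hasAss_fibre_of_killed n Γ (fun a ha x => hn a ha x) (hasAss_of_socle hz0 fun b hb => hi1 (by
      rw [map_smul, map_zero]; show b • (Γ.subtype.lTensor N z) = 0; rw [hz, hw' b hb]))⟩
    obtain ⟨x, hx⟩ : ∃ x : Γ, x ≠ 0 := by
      by_contra! h0
      have : Subsingleton Γ := subsingleton_of_forall_eq 0 h0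
      exact hz0 (Subsingleton.elim _ _)
    obtain ⟨u, hu, hu', -⟩ := exists_socle_of_pow hx fun b hb => hn b hb x
    exact hasAss_of_injective (E0.subtype.comp Γ.subtype) (E0.injective_subtype.comp Γ.injective_subtype)
      (hasAss_of_socle hu hu')
  · rintro ⟨hE, hN⟩
    obtain ⟨v, hv, hv'⟩ := exists_socle hE
    let m := IsLocalRing.maximalIdeal R
    let c : (R ⧸ m) →ₗ[R] E := Submodule.liftQ m (LinearMap.toSpanSingleton R E v) fun a ha =>
      LinearMap.mem_ker.mpr (hv' a ha)
    have hc : Function.Injective c := by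
      rw [injective_iff_map_eq_zero]
      intro z hz
      obtain ⟨a, rfl⟩ := Submodule.Quotient.mk_surjective _ z
      rw [Submodule.Quotient.mk_eq_zero]
      by_contra ha
      exact hv ((IsLocalRing.notMem_maximalIdeal.mp ha).smul_eq_zero.mp hz)
    obtain ⟨f⟩ := exists_fibreEquiv R S N
    exact hasAss_of_injective (AlgebraTensorModule.lTensor S N c)
      (Module.Flat.lTensor_preserves_injective_linearMap c hc) ((hasAss_congr f).mpr hN)

end

end Groth.Agent.H52.Ass.FlatTensor
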