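import Groth.Prelude.Def_FDesc
import Groth.Agent.H52.Ass.FlatTensor
import Groth.Agent.H46.FiberStalk
import Groth.Agent.Lib.DerivedOX.PullbackStalk
import Groth.Agent.Lib.DerivedOX.TensorSheaf
import Groth.Agent.Lib.Modules.GenStalk
import Groth.Agent.Lib.StalkLoc.AssStalk
import Groth.Agent.Lib.TensorMod.TensorQCoh
import Groth.Agent.Lib.QCoh.Pullback
import Mathlib.LinearAlgebra.TensorProduct.Quotient
import Mathlib.AlgebraicGeometry.Noetherian

/-!
Associated points of `f^*E ⊗ F` for `F` flat over the base.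
-/

universe u

open CategoryTheory CategoryTheory.Limits AlgebraicGeometry TensorProduct

namespace Groth.Agent.H52.Ass.FlatTensorScheme

open Groth.Agent.H52.Ass.FlatTensor Groth.Agent.Lib

theorem mem_ass_iff {X : Scheme.{u}} (M : X.Modules) (x : X) :
    x ∈ AssSch.Ass M ↔ HasAss (X.presheaf.stalk x) (M.presheaf.stalk x) := Iff.rfl

theorem hasAss_of_surjective {S Q : Type u} [CommRing S] [IsLocalRing S] [IsNoetherianRing S]
    [CommRing Q] [IsLocalRing Q] [IsNoetherianRing Q] (φ : S →+* Q) (hφ : Function.Surjective φ)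
    {W : Type u} [AddCommGroup W] [Module S W] {V : Type u} [AddCommGroup V] [Module Q V]
    (e : W ≃+ V) (he : ∀ s w, e (s • w) = φ s • e w) : HasAss S W ↔ HasAss Q V := by
  have : IsLocalHom φ := .of_surjective φ hφ
  constructor
  · intro h
    obtain ⟨v, hv, hv'⟩ := exists_socle h
    refine hasAss_of_socle ((map_ne_zero_iff e e.injective).mpr hv) fun q hq => ?_
    obtain ⟨s, rfl⟩ := hφ q
    have hs : s ∈ IsLocalRing.maximalIdeal S := fun hu => hq (hu.map φ)
    rw [← he, hv' s hs, map_zero]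
  · intro h
    obtain ⟨v, hv, hv'⟩ := exists_socle h
    obtain ⟨w, rfl⟩ := e.surjective v
    refine hasAss_of_socle (v := w) (fun h0 => hv (by rw [h0, map_zero])) fun s hs => e.injective ?_
    rw [he, hv' (φ s) (fun hu => hs (isUnit_of_map_unit φ s hu)), map_zero]

variable {X Y : Scheme.{u}} (f : X ⟶ Y) (E : Y.Modules) (F : X.Modules)

/-- The total module `f^*E ⊗ F`. -/
noncomputable abbrev tot : X.Modules := CohB1.tensorMod ((Scheme.Modules.pullback f).obj E) F

theorem exists_stalkEquiv (z : X) :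
    letI : Algebra (Y.presheaf.stalk (f z)) (X.presheaf.stalk z) := (f.stalkMap z).hom.toAlgebra
    letI := FlatMod.moduleStalkOver f F z
    haveI : IsScalarTower (Y.presheaf.stalk (f z)) (X.presheaf.stalk z) (F.presheaf.stalk z) :=
      ⟨fun r s v => mul_smul ((f.stalkMap z).hom r) s v⟩
    Nonempty ((tot f E F).presheaf.stalk z ≃ₗ[X.presheaf.stalk z]
      F.presheaf.stalk z ⊗[Y.presheaf.stalk (f z)] E.presheaf.stalk (f z)) := by
  let _ : Algebra (Y.presheaf.stalk (f z)) (X.presheaf.stalk z) := (f.stalkMap z).hom.toAlgebra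
  let _ := FlatMod.moduleStalkOver f F z
  have : IsScalarTower (Y.presheaf.stalk (f z)) (X.presheaf.stalk z) (F.presheaf.stalk z) :=
    ⟨fun r s v => mul_smul ((f.stalkMap z).hom r) s v⟩
  let e1 : (tot f E F).presheaf.stalk z ≃ₗ[X.presheaf.stalk z]
      ((Scheme.Modules.pullback f).obj E).presheaf.stalk z ⊗[X.presheaf.stalk z] F.presheaf.stalk z :=
    DerivedOX.TensorSheaf.tensorStalk z _ F
  let e2 : X.presheaf.stalk z ⊗[Y.presheaf.stalk (f z)] E.presheaf.stalk (f z) ≃ₗ[X.presheaf.stalk z]
      ((Scheme.Modules.pullback f).obj E).presheaf.stalk z :=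
    ((DerivedOX.PullbackStalk.pullbackStalkIso f z).app E).toLinearEquiv
  exact ⟨(e1.trans (TensorProduct.comm _ _ _)).trans
    ((TensorProduct.congr (LinearEquiv.refl _ _) e2.symm).trans
      (AlgebraTensorModule.cancelBaseChange (Y.presheaf.stalk (f z)) (X.presheaf.stalk z)
        (X.presheaf.stalk z) (F.presheaf.stalk z) (E.presheaf.stalk (f z))))⟩

theorem isNoetherianRing_fibre_stalk [IsLocallyNoetherian X] (y : Y) (a : f.fiber y) :
    IsNoetherianRing ((f.fiber y).presheaf.stalk a) :=
  isNoetherianRing_of_surjective _ _ ((f.fiberι y).stalkMap a).hom ((f.fiberι y).stalkMap_surjective a)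

theorem hasAss_fibre_iff [IsLocallyNoetherian X] (y : Y) (a : f.fiber y) :
    letI : Algebra (Y.presheaf.stalk (f (f.fiberι y a))) (X.presheaf.stalk (f.fiberι y a)) :=
      (f.stalkMap (f.fiberι y a)).hom.toAlgebra
    a ∈ AssSch.Ass ((Scheme.Modules.pullback (f.fiberι y)).obj F) ↔
      HasAss (X.presheaf.stalk (f.fiberι y a)) (F.presheaf.stalk (f.fiberι y a) ⧸
        (mS (Y.presheaf.stalk (f (f.fiberι y a))) (X.presheaf.stalk (f.fiberι y a)) •
          (⊤ : Submodule (X.presheaf.stalk (f.fiberι y a)) (F.presheaf.stalk (f.fiberι y a))))) := by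
  let _ : Algebra (Y.presheaf.stalk (f (f.fiberι y a))) (X.presheaf.stalk (f.fiberι y a)) :=
    (f.stalkMap (f.fiberι y a)).hom.toAlgebra
  let S := X.presheaf.stalk (f.fiberι y a)
  let Q := (f.fiber y).presheaf.stalk a
  let φ : S →+* Q := ((f.fiberι y).stalkMap a).hom
  have hφ : Function.Surjective φ := (f.fiberι y).stalkMap_surjective a
  have : IsNoetherianRing Q := isNoetherianRing_fibre_stalk f y a
  let _ : Algebra S Q := φ.toAlgebra
  let J := mS (Y.presheaf.stalk (f (f.fiberι y a))) S
  have hJ : J = RingHom.ker φ := (Groth.Agent.H46.FiberStalk.ker_stalkMap_fiberι f y a).symm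
  let eA : (S ⧸ J) ≃ₗ[S] Q :=
    (Submodule.quotEquivOfEq J (LinearMap.ker (Algebra.linearMap S Q)) (hJ.trans rfl)).trans
      (LinearMap.quotKerEquivOfSurjective (Algebra.linearMap S Q) hφ)
  let W := F.presheaf.stalk (f.fiberι y a)
  let e2 : Q ⊗[S] W ≃ₗ[Q] ((Scheme.Modules.pullback (f.fiberι y)).obj F).presheaf.stalk a :=
    ((DerivedOX.PullbackStalk.pullbackStalkIso (f.fiberι y) a).app F).toLinearEquiv
  let e : (W ⧸ (J • (⊤ : Submodule S W))) ≃ₗ[S] Q ⊗[S] W :=
    (TensorProduct.quotTensorEquivQuotSMul W J).symm.trans (TensorProduct.congr eA (LinearEquiv.refl S W))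
  rw [mem_ass_iff]
  refine (hasAss_of_surjective φ hφ (e.toAddEquiv.trans e2.toAddEquiv) fun s w => ?_).symm
  show e2 (e (s • w)) = φ s • e2 (e w)
  rw [map_smul, ← map_smul e2]
  congr 1

/-- Associated points of `f^*E ⊗ F`, for `F` flat over the base. -/
theorem mem_ass_tot_iff [IsLocallyNoetherian X] [IsLocallyNoetherian Y] (hflat : FlatMod.IsFlatOver f F)
    (y : Y) (a : f.fiber y) :
    f.fiberι y a ∈ AssSch.Ass (tot f E F) ↔
      f (f.fiberι y a) ∈ AssSch.Ass E ∧ a ∈ AssSch.Ass ((Scheme.Modules.pullback (f.fiberι y)).obj F) := by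
  let z := f.fiberι y a
  let _ : Algebra (Y.presheaf.stalk (f z)) (X.presheaf.stalk z) := (f.stalkMap z).hom.toAlgebra
  let _ := FlatMod.moduleStalkOver f F z
  have : IsScalarTower (Y.presheaf.stalk (f z)) (X.presheaf.stalk z) (F.presheaf.stalk z) :=
    ⟨fun r s v => mul_smul ((f.stalkMap z).hom r) s v⟩
  have : IsLocalHom (algebraMap (Y.presheaf.stalk (f z)) (X.presheaf.stalk z)) :=
    inferInstanceAs (IsLocalHom (f.stalkMap z).hom)
  have : Module.Flat (Y.presheaf.stalk (f z)) (F.presheaf.stalk z) := hflat z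
  obtain ⟨e⟩ := exists_stalkEquiv f E F z
  rw [mem_ass_iff, mem_ass_iff, hasAss_congr e, hasAss_tensor_iff, hasAss_fibre_iff f F y a]

theorem isQCoh_tot [E.IsQuasicoherent] [F.IsQuasicoherent] : (tot f E F).IsQuasicoherent := by
  have := QCoh.Pullback.isQCoh_pullback (f := f) E
  exact TensorMod.TensorQCoh.isQCoh_tensorMod _ F

theorem nontrivial_of_mem_ass {Z : Scheme.{u}} (M : Z.Modules) {x : Z} (h : x ∈ AssSch.Ass M) :
    Nontrivial (M.presheaf.stalk x) := by
  by_contra hn
  rw [not_nontrivial_iff_subsingleton] at hn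
  exact not_isAssociatedPrime_of_subsingleton h

theorem nontrivial_of_ass_fibre (y : Y) (a : f.fiber y)
    (h : a ∈ AssSch.Ass ((Scheme.Modules.pullback (f.fiberι y)).obj F)) :
    Nontrivial (F.presheaf.stalk (f.fiberι y a)) := by
  have h1 := nontrivial_of_mem_ass _ h
  by_contra hn
  rw [not_nontrivial_iff_subsingleton] at hn
  let _ : Algebra (X.presheaf.stalk (f.fiberι y a)) ((f.fiber y).presheaf.stalk a) :=
    ((f.fiberι y).stalkMap a).hom.toAlgebra
  let e2 : (f.fiber y).presheaf.stalk a ⊗[X.presheaf.stalk (f.fiberι y a)] F.presheaf.stalk (f.fiberι y a)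
      ≃ₗ[(f.fiber y).presheaf.stalk a] ((Scheme.Modules.pullback (f.fiberι y)).obj F).presheaf.stalk a :=
    ((DerivedOX.PullbackStalk.pullbackStalkIso (f.fiberι y) a).app F).toLinearEquiv
  exact not_subsingleton _ e2.symm.toEquiv.subsingleton

/-- An associated point of `E` generalizing `f z` lifts to an associated point of the total module. -/
theorem exists_lift [IsLocallyNoetherian X] [IsLocallyNoetherian Y] [E.IsQuasicoherent]
    [F.IsQuasicoherent] [SheafOfModules.IsFiniteType (R := X.ringCatSheaf) F]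
    (hflat : FlatMod.IsFlatOver f F) (z : X) [Nontrivial (F.presheaf.stalk z)] (y : Y)
    (hy : y ∈ AssSch.Ass E) (hyz : y ⤳ f z) :
    ∃ w ∈ AssSch.Ass (tot f E F), w ⤳ z ∧ f w = y := by
  have := isQCoh_tot f E F
  let R := Y.presheaf.stalk (f z)
  let S := X.presheaf.stalk z
  let _ : Algebra R S := (f.stalkMap z).hom.toAlgebra
  let _ := FlatMod.moduleStalkOver f F z
  have : IsScalarTower R S (F.presheaf.stalk z) := ⟨fun r s v => mul_smul ((f.stalkMap z).hom r) s v⟩
  have : IsLocalHom (algebraMap R S) := inferInstanceAs (IsLocalHom (f.stalkMap z).hom)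
  have : Module.Flat R (F.presheaf.stalk z) := hflat z
  have : Module.Finite S (F.presheaf.stalk z) := Modules.GenStalk.finite_stalk F z
  obtain ⟨p, hp⟩ := (Scheme.range_fromSpecStalk (X := Y) (x := f z)).ge hyz
  rw [← hp, ← StalkLoc.AssStalk.mem_associatedPrimes_stalk_iff (f z) p] at hy
  have hpp : p.asIdeal.IsPrime := p.2
  obtain ⟨-, c, hc⟩ := (isAssociatedPrime_iff_exists_injective_linearMap p.asIdeal _).mp hy
  let N := F.presheaf.stalk z ⊗[R] (R ⧸ p.asIdeal)
  -- it is nonzero
  have hN : Nontrivial N := by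
    obtain ⟨e⟩ := exists_fibreEquiv R S (F.presheaf.stalk z)
    have hne : Nontrivial (F.presheaf.stalk z ⧸ (mS R S • (⊤ : Submodule S (F.presheaf.stalk z)))) := by
      refine Submodule.Quotient.nontrivial_iff.mpr fun h => ?_
      have hle : mS R S ≤ IsLocalRing.maximalIdeal S := Ideal.map_le_iff_le_comap.mpr fun a ha =>
        map_mem_maximal ha
      exact top_ne_bot (α := Submodule S (F.presheaf.stalk z))
        (Submodule.eq_bot_of_le_smul_of_le_jacobson_bot (mS R S) ⊤ Module.Finite.fg_top h.ge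
          (hle.trans (IsLocalRing.maximalIdeal_le_jacobson ⊥)))
    have hs : Function.Surjective ((Submodule.factor (IsLocalRing.le_maximalIdeal hpp.ne_top) :
        (R ⧸ p.asIdeal) →ₗ[R] R ⧸ IsLocalRing.maximalIdeal R).lTensor (F.presheaf.stalk z)) :=
      LinearMap.lTensor_surjective _ (Submodule.factor_surjective _)
    have : Nontrivial (F.presheaf.stalk z ⊗[R] (R ⧸ IsLocalRing.maximalIdeal R)) := e.toEquiv.nontrivial
    exact hs.nontrivial
  obtain ⟨P, hP⟩ := associatedPrimes.nonempty S N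
  have hPp : P.IsPrime := hP.1
  obtain ⟨e⟩ := exists_stalkEquiv f E F z
  let i : N →ₗ[S] (tot f E F).presheaf.stalk z := e.symm.toLinearMap.comp
    (AlgebraTensorModule.lTensor S (F.presheaf.stalk z) c)
  have hi : Function.Injective i := e.symm.injective.comp
    (Module.Flat.lTensor_preserves_injective_linearMap c hc)
  have hPt : P ∈ associatedPrimes S ((tot f E F).presheaf.stalk z) :=
    associatedPrimes.subset_of_injective hi hP
  -- `P` lies over `p`
  obtain ⟨-, v, hv⟩ := hP
  have hv0 : v ≠ 0 := by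
    rintro rfl
    exact hPp.ne_top (eq_top_iff.mpr fun t _ => by
      rw [hv]; exact Ideal.le_radical (Submodule.mem_colon_singleton.mpr (by simp)))
  have hcomap : P.comap (algebraMap R S) = p.asIdeal := by
    ext a
    rw [Ideal.mem_comap, hv, Ideal.mem_radical_iff]
    simp only [Submodule.mem_colon_singleton, Submodule.mem_bot, ← map_pow, algebraMap_smul_tensor]
    constructor
    · rintro ⟨n, hn⟩
      by_contra ha
      refine hv0 ?_
      let μ : (R ⧸ p.asIdeal) →ₗ[R] R ⧸ p.asIdeal := a ^ n • LinearMap.id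
      have hμ : Function.Injective μ := by
        rw [injective_iff_map_eq_zero]
        intro q hq
        obtain ⟨r, rfl⟩ := Submodule.Quotient.mk_surjective _ q
        rw [LinearMap.smul_apply, LinearMap.id_apply, ← Submodule.Quotient.mk_smul,
          Submodule.Quotient.mk_eq_zero] at hq
        rw [Submodule.Quotient.mk_eq_zero]
        exact (hpp.mem_or_mem hq).resolve_left fun h => ha (hpp.mem_of_pow_mem n h)
      refine Module.Flat.lTensor_preserves_injective_linearMap μ hμ ?_
      rw [map_zero, LinearMap.lTensor_smul, LinearMap.lTensor_id, LinearMap.smul_apply, LinearMap.id_apply, ← algebraMap_smul_tensor (S := S), hn]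
    · intro ha
      refine ⟨1, ?_⟩
      rw [pow_one, algebraMap_smul_tensor]
      clear hv hv0
      induction v using TensorProduct.induction_on with
      | zero => rw [smul_zero]
      | tmul m q =>
        obtain ⟨r, rfl⟩ := Submodule.Quotient.mk_surjective _ q
        rw [← TensorProduct.tmul_smul, ← Submodule.Quotient.mk_smul,
          (Submodule.Quotient.mk_eq_zero p.asIdeal).mpr (show a • r ∈ p.asIdeal from Ideal.mul_mem_right r _ ha), TensorProduct.tmul_zero]
      | add q q' hq hq' => rw [smul_add, hq, hq', add_zero]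
  let PP : Spec S := ⟨P, hPp⟩
  refine ⟨X.fromSpecStalk z PP, (StalkLoc.AssStalk.mem_associatedPrimes_stalk_iff z PP).mp hPt,
    (Scheme.range_fromSpecStalk (X := X) (x := z)).le ⟨_, rfl⟩, ?_⟩
  rw [← Scheme.Hom.comp_apply, ← Scheme.SpecMap_stalkMap_fromSpecStalk, Scheme.Hom.comp_apply, ← hp]
  congr 1
  exact PrimeSpectrum.ext hcomap

end Groth.Agent.H52.Ass.FlatTensorScheme
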