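import Groth.Agent.H52.Ass.FlatTensor
import Groth.Agent.Lib.Devissage.Sky
import Groth.Agent.Lib.StalkLoc.AssStalk
import Groth.Agent.Lib.CohBasics.Closure
import Groth.Agent.Lib.Modules.SubStalk
import Groth.Agent.Lib.QCoh.Stalk
import Groth.Agent.Lib.Cyc.C1
import Mathlib.RingTheory.Filtration

/-!
Reduced decompositions of coherent modules on locally Noetherian schemes.
-/

universe u

open CategoryTheory CategoryTheory.Limits AlgebraicGeometry Opposite TopologicalSpace IsLocalRing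

namespace Groth.Agent.H52.Ass.Decomp

open Groth.Agent.Lib Groth.Agent.Lib.Modules.StalkModule Groth.Agent.H52.Ass.FlatTensor

section Algebra

variable {R : Type u} [CommRing R] [IsLocalRing R] [IsNoetherianRing R] {M : Type u} [AddCommGroup M]
  [Module R M] [Module.Finite R M]

/-- A power of the maximal ideal meets the torsion of `M` trivially. -/
theorem exists_pow_inf_torsion : ∃ n : ℕ, ∀ w : M, w ∈ maximalIdeal R ^ n • (⊤ : Submodule R M) →
    (∃ N, ∀ a ∈ maximalIdeal R ^ N, a • w = 0) → w = 0 := by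
  let Γ : Submodule R M :=
    { carrier := {w | ∃ N, ∀ a ∈ maximalIdeal R ^ N, a • w = 0}
      zero_mem' := ⟨0, fun a _ => smul_zero a⟩
      add_mem' := fun {v w} ⟨N, hv⟩ ⟨N', hw⟩ => ⟨max N N', fun a ha => by
        rw [smul_add, hv a (Ideal.pow_le_pow_right (le_max_left N N') ha),
          hw a (Ideal.pow_le_pow_right (le_max_right N N') ha), add_zero]⟩
      smul_mem' := fun c w ⟨N, hw⟩ => ⟨N, fun a ha => by rw [smul_comm, hw a ha, smul_zero]⟩ }
  obtain ⟨s, hs⟩ := IsNoetherian.noetherian Γ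
  have hN : ∀ x ∈ s, ∃ N, ∀ a ∈ maximalIdeal R ^ N, a • x = 0 := fun x hx =>
    hs.le (Submodule.subset_span hx)
  choose! N hN using hN
  let N0 := s.sup N
  obtain ⟨k, hk⟩ := Ideal.exists_pow_inf_eq_pow_smul (maximalIdeal R) Γ
  refine ⟨k + N0, fun w hw hw' => ?_⟩
  have h : w ∈ maximalIdeal R ^ (k + N0) • ⊤ ⊓ Γ := ⟨hw, hw'⟩
  rw [hk _ (Nat.le_add_right k N0), Nat.add_sub_cancel_left] at h
  have hle : maximalIdeal R ^ N0 • (maximalIdeal R ^ k • ⊤ ⊓ Γ) ≤ (⊥ : Submodule R M) := by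
    refine Submodule.smul_le.mpr fun a ha v hv => ?_
    rw [Submodule.mem_bot]
    have hv' : v ∈ Submodule.span R (s : Set M) := hs.symm ▸ hv.2
    clear hv
    induction hv' using Submodule.span_induction with
    | mem x hx => exact hN x hx a (Ideal.pow_le_pow_right (Finset.le_sup hx) ha)
    | zero => exact smul_zero a
    | add x y _ _ hx hy => rw [smul_add, hx, hy, add_zero]
    | smul c x _ hx => rw [smul_comm, hx, smul_zero]
  exact (Submodule.mem_bot R).mp (hle h)

end Algebra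

variable {X : Scheme.{u}}

theorem stalkMap_specializes {M N : X.Modules} (φ : M ⟶ N) {z y : X} (h : z ⤳ y) (v : M.presheaf.stalk y) :
    N.presheaf.stalkSpecializes h (stalkMapₗ φ y v) = stalkMapₗ φ z (M.presheaf.stalkSpecializes h v) :=
  (ConcreteCategory.congr_hom (TopCat.Presheaf.stalkSpecializes_stalkFunctor_map φ.mapPresheaf h) v).symm

/-- A nonzero germ is torsion and nonzero at some generization. -/
theorem exists_torsion_specializes [IsLocallyNoetherian X] {M : X.Modules} [M.IsQuasicoherent] {y : X}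
    {v : M.presheaf.stalk y} (hv : v ≠ 0) :
    ∃ (z : X) (h : z ⤳ y), M.presheaf.stalkSpecializes h v ≠ 0 ∧
      ∃ N, ∀ a ∈ maximalIdeal (X.presheaf.stalk z) ^ N, a • M.presheaf.stalkSpecializes h v = 0 := by
  classical
  obtain ⟨U, hU, hy, -⟩ := exists_isAffineOpen_mem_and_subset (x := y) (U := ⊤) trivial
  have := IsLocallyNoetherian.component_noetherian ⟨U, hU⟩
  obtain ⟨r, t, hr, ht⟩ := StalkLoc.Basic.exists_smul_eq_germ hU hy v
  have hru : IsUnit (X.presheaf.germ U y hy r) := (X.mem_basicOpen r y hy).mp hr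
  have ht0 : M.presheaf.germ U y hy t ≠ 0 := fun h0 => hv (hru.smul_eq_zero.mp (ht.trans h0))
  let I : Ideal Γ(X, U) :=
    { carrier := {a | a • t = 0}
      zero_mem' := zero_smul _ _
      add_mem' := fun {a b} ha hb => by
        show (a + b) • t = 0
        rw [add_smul, show a • t = 0 from ha, show b • t = 0 from hb, add_zero]
      smul_mem' := fun c a ha => by
        show (c • a) • t = 0
        rw [smul_eq_mul, mul_smul, show a • t = 0 from ha, smul_zero] }
  have hIp : I ≤ (hU.primeIdealOf ⟨y, hy⟩).asIdeal := by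
    intro a ha
    by_contra hap
    exact ht0 ((StalkLoc.Basic.germ_eq_zero_iff hU hy t).mpr
      ⟨a, (QCoh.Stalk.mem_primeIdealOf_compl_iff hU hy a).mp hap, ha⟩)
  obtain ⟨q, hq, hqp⟩ := Ideal.exists_minimalPrimes_le hIp
  have := hq.1.1
  let Q : PrimeSpectrum Γ(X, U) := ⟨q, hq.1.1⟩
  let z := hU.fromSpec Q
  have hz : z ∈ U := by rw [← SetLike.mem_coe, ← hU.range_fromSpec]; exact ⟨Q, rfl⟩
  have hpz : hU.primeIdealOf ⟨z, hz⟩ = Q :=
    hU.fromSpec.isOpenEmbedding.injective (hU.fromSpec_primeIdealOf ⟨z, hz⟩)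
  have hzy : z ⤳ y := by
    have h' := ((PrimeSpectrum.le_iff_specializes Q _).mp hqp).map hU.fromSpec.continuous
    rw [hU.fromSpec_primeIdealOf ⟨y, hy⟩] at h'
    exact h'
  refine ⟨z, hzy, ?_⟩
  have hsp : ∀ t' : Γ(M, U), M.presheaf.stalkSpecializes hzy (M.presheaf.germ U y hy t') =
      M.presheaf.germ U z hz t' := fun t' =>
    ConcreteCategory.congr_hom (TopCat.Presheaf.germ_stalkSpecializes M.presheaf hy hzy) t'
  have hrz : IsUnit (X.presheaf.germ U z hz r) :=
    (X.mem_basicOpen r z hz).mp (hzy.mem_open (X.basicOpen r).2 hr)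
  have hw : X.presheaf.germ U z hz r • M.presheaf.stalkSpecializes hzy v = M.presheaf.germ U z hz t := by
    rw [← hsp, ← ht, Cyc.C1.stalkSpecializes_smul]
    congr 1
    exact (ConcreteCategory.congr_hom (TopCat.Presheaf.germ_stalkSpecializes X.presheaf hy hzy) r).symm
  refine ⟨fun h0 => ?_, ?_⟩
  · rw [h0, smul_zero] at hw
    obtain ⟨a, ha, ha0⟩ := (StalkLoc.Basic.germ_eq_zero_iff hU hz t).mp hw.symm
    exact (QCoh.Stalk.mem_primeIdealOf_compl_iff hU hz a).mpr ha ((congrArg PrimeSpectrum.asIdeal hpz).ge (hq.1.2 ha0))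
  let _ := TopCat.Presheaf.algebra_section_stalk X.presheaf (⟨z, hz⟩ : U)
  have := hU.isLocalization_stalk ⟨z, hz⟩
  have hkill : ∀ a ∈ q, ∃ n, (X.presheaf.germ U z hz a) ^ n • M.presheaf.germ U z hz t = 0 := by
    intro a ha
    have hnd : ¬ Disjoint (I : Set Γ(X, U)) ↑(q.primeCompl ⊔ Submonoid.powers a) := by
      intro hdisj
      obtain ⟨P, hP, hIP, hPd⟩ := Ideal.exists_le_prime_disjoint I _ hdisj
      have hPq : P ≤ q := fun c hc => by
        by_contra hcq
        exact Set.disjoint_left.mp hPd hc (Submonoid.mem_sup_left hcq)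
      exact Set.disjoint_left.mp hPd (hq.2 ⟨hP, hIP⟩ hPq ha)
        (Submonoid.mem_sup_right (Submonoid.mem_powers a))
    obtain ⟨c, hcI, hc⟩ := Set.not_disjoint_iff.mp hnd
    obtain ⟨s, hs, _, ⟨n, rfl⟩, rfl⟩ := Submonoid.mem_sup.mp hc
    refine ⟨n, ?_⟩
    have h1 := congrArg (M.presheaf.germ U z hz) (hcI : (s * a ^ n) • t = 0)
    rw [germ_smul, map_zero, map_mul, mul_smul, map_pow] at h1
    refine ((X.mem_basicOpen s z hz).mp ?_).smul_eq_zero.mp h1
    exact (QCoh.Stalk.mem_primeIdealOf_compl_iff hU hz s).mp (hpz.symm ▸ hs)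
  let J : Ideal (X.presheaf.stalk z) :=
    ((⊥ : Submodule (X.presheaf.stalk z) (M.presheaf.stalk z)).colon {M.presheaf.stalkSpecializes hzy v}).radical
  have hJ : maximalIdeal (X.presheaf.stalk z) ≤ J := by
    rw [← IsLocalization.AtPrime.map_eq_maximalIdeal (hU.primeIdealOf ⟨z, hz⟩).asIdeal,
      Ideal.map_le_iff_le_comap]
    intro a ha
    obtain ⟨n, hn⟩ := hkill a ((congrArg PrimeSpectrum.asIdeal hpz).le ha)
    refine ⟨n, ?_⟩
    rw [Submodule.mem_colon_singleton, Submodule.mem_bot]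
    have h2 : X.presheaf.germ U z hz r •
        ((X.presheaf.germ U z hz a) ^ n • M.presheaf.stalkSpecializes hzy v) = 0 := by
      rw [smul_comm, hw, hn]
    exact hrz.smul_eq_zero.mp h2
  obtain ⟨N, hN⟩ := Ideal.exists_radical_pow_le_of_fg
    ((⊥ : Submodule (X.presheaf.stalk z) (M.presheaf.stalk z)).colon {M.presheaf.stalkSpecializes hzy v})
    (IsNoetherian.noetherian J)
  refine ⟨N, fun a ha => ?_⟩
  have := hN (Ideal.pow_right_mono hJ N ha)
  rwa [Submodule.mem_colon_singleton, Submodule.mem_bot] at this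

theorem eq_of_socle_sky {x y : X} {L : Type u} [AddCommGroup L] [Module (X.presheaf.stalk x) L]
    {w : (Devissage.Sky.sky x L).presheaf.stalk y} (hw : w ≠ 0)
    (h : ∀ a ∈ maximalIdeal (X.presheaf.stalk y), a • w = 0) : y = x := by
  classical
  by_contra hne
  obtain ⟨V, hyV, f, rfl⟩ := TopCat.Presheaf.exists_germ_eq (Devissage.Sky.sky x L).presheaf w
  have hzero : ∀ (W : X.Opens) (hyW : y ∈ W) (hWV : W ≤ V), x ∉ W → False := by
    intro W hyW hWV hxW
    refine hw ?_
    rw [← TopCat.Presheaf.germ_res_apply _ (homOfLE hWV) y hyW f]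
    refine Eq.trans (congrArg _ (funext fun h' : PLift (x ∈ W) => absurd h'.down hxW)) (map_zero _)
  by_cases hsp : x ⤳ y
  · obtain ⟨U, hU, hyU, hUV⟩ := exists_isAffineOpen_mem_and_subset (x := y) (U := V) hyV
    have hxU : x ∈ U := hsp.mem_open U.2 hyU
    have hnle : ¬ (hU.primeIdealOf ⟨y, hyU⟩).asIdeal ≤ (hU.primeIdealOf ⟨x, hxU⟩).asIdeal := by
      intro hle
      have := ((PrimeSpectrum.le_iff_specializes _ _).mp hle).map hU.fromSpec.continuous
      rw [hU.fromSpec_primeIdealOf, hU.fromSpec_primeIdealOf] at this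
      exact hne (this.antisymm hsp).eq
    obtain ⟨a, hay, hax⟩ := SetLike.not_le_iff_exists.mp hnle
    have hua : IsUnit (X.presheaf.germ U x hxU a) :=
      (X.mem_basicOpen a x hxU).mp ((QCoh.Stalk.mem_primeIdealOf_compl_iff hU hxU a).mp hax)
    have hay' : X.presheaf.germ U y hyU a ∈ maximalIdeal (X.presheaf.stalk y) := fun hu =>
      (QCoh.Stalk.mem_primeIdealOf_compl_iff hU hyU a).mpr ((X.mem_basicOpen a y hyU).mpr hu) hay
    have h0 := h _ hay'
    rw [← TopCat.Presheaf.germ_res_apply _ (homOfLE hUV) y hyU f, ← germ_smul] at h0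
    obtain ⟨W, hyW, iW, _, hW⟩ := TopCat.Presheaf.germ_eq _ y hyU hyU _ 0 (h0.trans (map_zero _).symm)
    have hxW : x ∈ W := hsp.mem_open W.2 hyW
    have h1 : X.presheaf.germ U x hxU a • (show Devissage.Sky.Sec x L V from f) ⟨hUV hxU⟩ = 0 :=
      congrFun (show (_ : Devissage.Sky.Sec x L W) = _ from hW) ⟨hxW⟩
    have h2 : (show Devissage.Sky.Sec x L V from f) ⟨hUV hxU⟩ = 0 := hua.smul_eq_zero.mp h1
    refine hw ?_
    refine Eq.trans (congrArg _ (funext fun h' : PLift (x ∈ V) => ?_)) (map_zero _)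
    exact h2
  · rw [specializes_iff_forall_open] at hsp
    push Not at hsp
    obtain ⟨W, hW, hyW, hxW⟩ := hsp
    exact hzero (⟨W, hW⟩ ⊓ V) ⟨hyW, hyV⟩ inf_le_right fun h' => hxW h'.1

variable [IsLocallyNoetherian X] (M : X.Modules)

theorem exists_quotient (hM : Coh.IsCoh M) (x : X) (hx : x ∈ AssSch.Ass M) :
    ∃ (G : X.Modules) (q : M ⟶ G), Epi q ∧ Coh.IsCoh G ∧ AssSch.Ass G = {x} ∧
      ∀ w : M.presheaf.stalk x, (∃ N, ∀ a ∈ maximalIdeal (X.presheaf.stalk x) ^ N, a • w = 0) →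
        stalkMapₗ q x w = 0 → w = 0 := by
  have := hM.1
  have := hM.2
  have := Modules.GenStalk.finite_stalk M x
  obtain ⟨n, hn⟩ := exists_pow_inf_torsion (R := X.presheaf.stalk x) (M := M.presheaf.stalk x)
  let P : Submodule (X.presheaf.stalk x) (M.presheaf.stalk x) :=
    maximalIdeal (X.presheaf.stalk x) ^ n • ⊤
  let L := M.presheaf.stalk x ⧸ P
  have hkill : ∀ a ∈ maximalIdeal (X.presheaf.stalk x) ^ n, ∀ l : L, a • l = 0 := by
    intro a ha l
    obtain ⟨w, rfl⟩ := Submodule.Quotient.mk_surjective _ l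
    rw [← Submodule.Quotient.mk_smul, Submodule.Quotient.mk_eq_zero]
    exact Submodule.smul_mem_smul ha Submodule.mem_top
  have hS : (Devissage.Sky.sky x L).IsQuasicoherent :=
    Devissage.Sky.isQCoh_sky x L fun a ha l => ⟨n, hkill _ (Ideal.pow_mem_pow ha n) l⟩
  let φ : M ⟶ Devissage.Sky.sky x L := Devissage.Sky.toSky P.mkQ
  let m : cokernel (kernel.ι φ) ⟶ Devissage.Sky.sky x L := cokernel.desc (kernel.ι φ) φ (kernel.condition φ)
  have : Mono m := inferInstanceAs (Mono (Abelian.factorThruCoimage φ))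
  have hk : Coh.IsQCoh (kernel φ) := QCoh.Closure.isQCoh_kernel φ
  have hG : Coh.IsCoh (cokernel (kernel.ι φ)) := CohBasics.Closure.isCoh_cokernel _ hk hM
  refine ⟨_, cokernel.π (kernel.ι φ), inferInstance, hG, ?_, fun w hw hq => ?_⟩
  swap
  · refine hn w ?_ hw
    have h1 : stalkMapₗ φ x w = 0 := by
      have e : φ = cokernel.π (kernel.ι φ) ≫ m := (cokernel.π_desc _ _ _).symm
      rw [e, stalkMapₗ_comp, LinearMap.comp_apply, hq, map_zero]
    rw [Devissage.Sky.stalkMapₗ_toSky, LinearEquiv.map_eq_zero_iff, Submodule.mkQ_apply,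
      Submodule.Quotient.mk_eq_zero] at h1
    exact h1
  ext y
  constructor
  · intro hy
    obtain ⟨w, hw, hw'⟩ := exists_socle (R := X.presheaf.stalk y) hy
    have hinj := (mono_iff_stalkMapₗ_injective m).mp inferInstance y
    exact eq_of_socle_sky (w := stalkMapₗ m y w) ((map_ne_zero_iff _ hinj).mpr hw)
      fun a ha => by rw [← map_smul, hw' a ha, map_zero]
  · rintro rfl
    have hnt : Nontrivial (M.presheaf.stalk y) := by
      by_contra h0
      rw [not_nontrivial_iff_subsingleton] at h0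
      exact not_isAssociatedPrime_of_subsingleton hx
    obtain ⟨v, hv0, hv⟩ := exists_socle (R := X.presheaf.stalk y) hx
    let w := stalkMapₗ (cokernel.π (kernel.ι φ)) y v
    have hw0 : w ≠ 0 := by
      intro h0
      refine hv0 (hn v ?_ ⟨1, fun a ha => hv a (by simpa using ha)⟩)
      have h1 : stalkMapₗ φ y v = 0 := by
        have e : φ = cokernel.π (kernel.ι φ) ≫ m := (cokernel.π_desc _ _ _).symm
        rw [e, stalkMapₗ_comp, LinearMap.comp_apply, show stalkMapₗ (cokernel.π (kernel.ι φ)) y v = 0 from h0, map_zero]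
      rw [Devissage.Sky.stalkMapₗ_toSky, LinearEquiv.map_eq_zero_iff, Submodule.mkQ_apply,
        Submodule.Quotient.mk_eq_zero] at h1
      exact h1
    exact hasAss_of_socle hw0 fun a ha => by rw [← map_smul, hv a ha, map_zero]

variable {M}

theorem eq_zero_of_forall {G : AssSch.Ass M → X.Modules} (q : ∀ x, M ⟶ G x) [M.IsQuasicoherent]
    (h : ∀ (x : AssSch.Ass M) (w : M.presheaf.stalk x.1),
      (∃ N, ∀ a ∈ maximalIdeal (X.presheaf.stalk x.1) ^ N, a • w = 0) → stalkMapₗ (q x) x.1 w = 0 → w = 0)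
    {y : X} (v : M.presheaf.stalk y) (hv : ∀ x, stalkMapₗ (q x) y v = 0) : v = 0 := by
  by_contra hv0
  obtain ⟨z, hzy, hw, N, hN⟩ := exists_torsion_specializes hv0
  have hzA : z ∈ AssSch.Ass M := by
    obtain ⟨w', hw', hw'', -⟩ := exists_socle_of_pow hw hN
    exact hasAss_of_socle hw' hw''
  refine hw (h ⟨z, hzA⟩ _ ⟨N, hN⟩ ?_)
  rw [← stalkMap_specializes, hv, map_zero]

theorem exists_decomposition (hM : Coh.IsCoh M) :
    ∃ (G : AssSch.Ass M → X.Modules) (q : ∀ x, M ⟶ G x),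
      (∀ x, Epi (q x)) ∧ (∀ x, Coh.IsCoh (G x)) ∧ (∀ x, AssSch.Ass (G x) = {x.1}) ∧
        ∀ (T : X.Modules) (a b : T ⟶ M), (∀ x, a ≫ q x = b ≫ q x) → a = b := by
  have := hM.1
  choose G q hq hG hA hinj using fun x : AssSch.Ass M => exists_quotient M hM x.1 x.2
  refine ⟨G, q, hq, hG, hA, fun T a b hab => hom_ext_stalkMapₗ fun y => LinearMap.ext fun t => ?_⟩
  rw [← sub_eq_zero]
  refine eq_zero_of_forall q hinj _ fun x => ?_
  rw [map_sub, ← LinearMap.comp_apply, ← LinearMap.comp_apply, ← stalkMapₗ_comp, ← stalkMapₗ_comp, hab x,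
    sub_self]

end Groth.Agent.H52.Ass.Decomp
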