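import Groth.Agent.H52.Ass.FlatTensorScheme
import Groth.Agent.Lib.Modules.Support

/-!
Embedded points of `f^*E ⊗ F` for `F` flat over the base.
-/

universe u

open CategoryTheory CategoryTheory.Limits AlgebraicGeometry

namespace Groth.Agent.H52.Ass.FlatTensorScheme

open Groth.Agent.Lib

variable {X Y : Scheme.{u}} [IsLocallyNoetherian X] [IsLocallyNoetherian Y]
  {f : X ⟶ Y} {E : Y.Modules} {F : X.Modules}

theorem mem_support_iff_nontrivial {Z : Scheme.{u}} (M : Z.Modules) (x : Z) :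
    x ∈ CohB1.support M ↔ Nontrivial (M.presheaf.stalk x) := by
  rw [← not_iff_not, Modules.Support.not_mem_support_iff, not_nontrivial_iff_subsingleton]

theorem mem_ass_tot_iff' (hflat : FlatMod.IsFlatOver f F) {y : Y} {a : f.fiber y} :
    f.fiberι y a ∈ AssSch.Ass (tot f E F) ↔
      y ∈ AssSch.Ass E ∧ a ∈ AssSch.Ass ((Scheme.Modules.pullback (f.fiberι y)).obj F) := by
  have hy : f (f.fiberι y a) = y := by
    have : f.fiberι y a ∈ f ⁻¹' {y} := by rw [← f.range_fiberι y]; exact ⟨a, rfl⟩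
    exact this
  rw [mem_ass_tot_iff f E F hflat y a, hy]

omit [IsLocallyNoetherian X] [IsLocallyNoetherian Y] in
theorem exists_fibre_point (z : X) : ∃ a : f.fiber (f z), f.fiberι (f z) a = z :=
  ⟨f.asFiber z, f.fiberι_asFiber z⟩

theorem f_mem_of_ass_tot (hflat : FlatMod.IsFlatOver f F) {z : X} (hz : z ∈ AssSch.Ass (tot f E F)) :
    f z ∈ AssSch.Ass E ∧ Nontrivial (F.presheaf.stalk z) := by
  obtain ⟨a, ha⟩ := exists_fibre_point (f := f) z
  rw [← ha] at hz
  obtain ⟨h1, h2⟩ := (mem_ass_tot_iff' hflat).mp hz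
  refine ⟨h1, ?_⟩
  have := nontrivial_of_ass_fibre f F _ a h2
  rwa [ha] at this

variable [E.IsQuasicoherent] [F.IsQuasicoherent] [SheafOfModules.IsFiniteType (R := X.ringCatSheaf) F]

theorem exists_over (hflat : FlatMod.IsFlatOver f F) {x : X} (hx : x ∈ CohB1.support F)
    (hy : f x ∈ AssSch.Ass E) : ∃ z ∈ AssSch.Ass (tot f E F), z ⤳ x ∧ f z = f x := by
  have := (mem_support_iff_nontrivial F x).mp hx
  exact exists_lift f E F hflat x (f x) hy specializes_rfl

theorem maximal_of_noEmbedded (hflat : FlatMod.IsFlatOver f F) (h : AssSch.NoEmbedded (tot f E F))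
    {x : X} (hx : x ∈ CohB1.support F) (hy : f x ∈ AssSch.Ass E) {y' : Y} (hy' : y' ∈ AssSch.Ass E)
    (hsp : y' ⤳ f x) : y' = f x := by
  obtain ⟨z, hz, -, hzy⟩ := exists_over hflat hx hy
  have := (f_mem_of_ass_tot hflat hz).2
  obtain ⟨w, hw, hwz, hwy⟩ := exists_lift f E F hflat z y' hy' (hzy ▸ hsp)
  obtain rfl := h z hz w hw hwz
  rw [← hwy, hzy]

theorem noEmbedded_iff (hflat : FlatMod.IsFlatOver f F) :
    AssSch.NoEmbedded (tot f E F) ↔
      ∀ y ∈ AssSch.Ass E ∩ f.base '' CohB1.support F,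
        (∀ y' ∈ AssSch.Ass E, y' ⤳ y → y' = y) ∧
          AssSch.NoEmbedded ((Scheme.Modules.pullback (f.fiberι y)).obj F) := by
  constructor
  · rintro h y ⟨hy, x, hx, rfl⟩
    refine ⟨fun y' hy' hsp => maximal_of_noEmbedded hflat h hx hy hy' hsp, fun a ha b hb hba => ?_⟩
    apply (f.fiberι (f x)).isEmbedding.injective
    exact h _ ((mem_ass_tot_iff' hflat).mpr ⟨hy, ha⟩) _ ((mem_ass_tot_iff' hflat).mpr ⟨hy, hb⟩)
      (hba.map (f.fiberι (f x)).continuous)
  · intro h z1 hz1 z2 hz2 hsp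
    obtain ⟨h1, h1'⟩ := f_mem_of_ass_tot hflat hz1
    obtain ⟨h2, -⟩ := f_mem_of_ass_tot hflat hz2
    obtain ⟨hmax, hfib⟩ := h (f z1) ⟨h1, z1, (mem_support_iff_nontrivial F z1).mpr h1', rfl⟩
    have heq := hmax _ h2 (hsp.map f.continuous)
    obtain ⟨a, ha⟩ : z1 ∈ Set.range (f.fiberι (f z1)) := by rw [f.range_fiberι]; rfl
    obtain ⟨b, hb⟩ : z2 ∈ Set.range (f.fiberι (f z1)) := by rw [f.range_fiberι]; exact heq
    rw [← ha] at hz1
    rw [← hb] at hz2
    rw [← ha, ← hb] at hsp ⊢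
    rw [(hfib a ((mem_ass_tot_iff' hflat).mp hz1).2 b ((mem_ass_tot_iff' hflat).mp hz2).2
      ((f.fiberι (f z1)).isEmbedding.isInducing.specializes_iff.mp hsp))]

end Groth.Agent.H52.Ass.FlatTensorScheme
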