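import Groth.Agent.H52.Ass.FlatTensorNoEmb
import Groth.Agent.H52.FDesc.BaseChangeFlat
import Groth.Agent.H52.FBase.NoEmb
import Groth.Agent.Lib.FibreDeg.Basic

/-!
Associated points of `F ⊗_S G` on a fibre product, for `G` flat over the base.
-/

universe u

open CategoryTheory CategoryTheory.Limits AlgebraicGeometry TensorProduct IsLocalRing

namespace Groth.Agent.H52.Ass.FlatTensorProd

open Groth.Agent.H52.Ass.FlatTensor Groth.Agent.H52.Ass.FlatTensorScheme Groth.Agent.Lib
open Groth.Agent.Lib.AssPt.Basic

theorem isFlatOver_of_iso {X Y : Scheme.{u}} {f : X ⟶ Y} {M N : X.Modules} (e : M ≅ N)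
    (h : FlatMod.IsFlatOver f M) : FlatMod.IsFlatOver f N := by
  intro x
  let _ := FlatMod.moduleStalkOver f M x
  let _ := FlatMod.moduleStalkOver f N x
  let eL := Modules.StalkModule.stalkLinearEquiv e x
  let eR : M.presheaf.stalk x ≃ₗ[Y.presheaf.stalk (f x)] N.presheaf.stalk x :=
    { eL with map_smul' := fun r v => map_smul eL ((f.stalkMap x).hom r) v }
  have : Module.Flat (Y.presheaf.stalk (f x)) (M.presheaf.stalk x) := h x
  exact Module.Flat.of_linearEquiv eR.symm

theorem ass_of_iso {X : Scheme.{u}} [IsLocallyNoetherian X] {M N : X.Modules} (e : M ≅ N) (x : X) :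
    x ∈ AssSch.Ass M ↔ x ∈ AssSch.Ass N :=
  hasAss_congr (Modules.StalkModule.stalkLinearEquiv e x)

theorem isFlatOver_snd_pullback {X Y S : Scheme.{u}} (f : X ⟶ S) (g : Y ⟶ S) (G : Y.Modules)
    (hG : FlatMod.IsFlatOver g G) :
    FlatMod.IsFlatOver (pullback.fst f g) ((Scheme.Modules.pullback (pullback.snd f g)).obj G) := by
  let σ := (pullbackSymmetry f g).hom
  have h1 := Groth.Agent.H52.FDesc.BaseChangeFlat.isFlatOver_baseChange g f G hG
  have h2 := (Groth.Agent.H52.FDesc.PullbackFlat.isFlatOver_pullback_iff σ (pullback.snd g f)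
    ((Scheme.Modules.pullback (pullback.fst g f)).obj G)).mpr h1
  rw [pullbackSymmetry_hom_comp_snd] at h2
  exact isFlatOver_of_iso ((Scheme.Modules.pullbackComp σ (pullback.fst g f)).app G ≪≫
    (Scheme.Modules.pullbackCongr (pullbackSymmetry_hom_comp_fst f g)).app G) h2

/-- Associated points of the inverse image along a map flat at a point. -/
theorem ass_pullback_iff {X Y : Scheme.{u}} (h : X ⟶ Y) [Flat h] (E : Y.Modules) (a : X)
    [IsNoetherianRing (X.presheaf.stalk a)] [IsNoetherianRing (Y.presheaf.stalk (h a))] :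
    letI : Algebra (Y.presheaf.stalk (h a)) (X.presheaf.stalk a) := (h.stalkMap a).hom.toAlgebra
    a ∈ AssSch.Ass ((Scheme.Modules.pullback h).obj E) ↔
      h a ∈ AssSch.Ass E ∧ HasAss (X.presheaf.stalk a) (X.presheaf.stalk a ⧸
        (mS (Y.presheaf.stalk (h a)) (X.presheaf.stalk a) • (⊤ : Submodule (X.presheaf.stalk a) (X.presheaf.stalk a)))) := by
  let _ : Algebra (Y.presheaf.stalk (h a)) (X.presheaf.stalk a) := (h.stalkMap a).hom.toAlgebra
  have : IsLocalHom (algebraMap (Y.presheaf.stalk (h a)) (X.presheaf.stalk a)) :=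
    inferInstanceAs (IsLocalHom (h.stalkMap a).hom)
  have : Module.Flat (Y.presheaf.stalk (h a)) (X.presheaf.stalk a) := Flat.stalkMap h a
  let e : X.presheaf.stalk a ⊗[Y.presheaf.stalk (h a)] E.presheaf.stalk (h a) ≃ₗ[X.presheaf.stalk a]
      ((Scheme.Modules.pullback h).obj E).presheaf.stalk a :=
    ((DerivedOX.PullbackStalk.pullbackStalkIso h a).app E).toLinearEquiv
  rw [mem_ass_iff, mem_ass_iff, ← hasAss_congr e, hasAss_tensor_iff]

theorem map_maximalIdeal_of_surjective {R S : Type u} [CommRing R] [IsLocalRing R] [CommRing S]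
    [IsLocalRing S] (φ : R →+* S) (hφ : Function.Surjective φ) :
    (maximalIdeal R).map φ = maximalIdeal S := by
  have : IsLocalHom φ := .of_surjective φ hφ
  refine le_antisymm (Ideal.map_le_iff_le_comap.2 fun r hr hu => hr (isUnit_of_map_unit _ r hu)) fun s hs => ?_
  obtain ⟨r, rfl⟩ := hφ s
  exact Ideal.mem_map_of_mem φ fun hu => hs (hu.map φ)

theorem map_stalkSpecializes {Y : Scheme.{u}} {w w' : Y} (e : w = w') :
    (maximalIdeal (Y.presheaf.stalk w)).map (Y.presheaf.stalkSpecializes (specializes_of_eq e.symm)).hom =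
      maximalIdeal (Y.presheaf.stalk w') := by
  subst e
  simp

section T

variable {X Y S : Scheme.{u}} (f : X ⟶ S) (g : Y ⟶ S) (x : X) (y : Y)

/-- The map `Spec κ(x) ×_S Spec κ(y) → X ×_S Y`. -/
noncomputable abbrev tmap :
    pullback (X.fromSpecResidueField x ≫ f) (Y.fromSpecResidueField y ≫ g) ⟶ pullback f g :=
  pullback.map (X.fromSpecResidueField x ≫ f) (Y.fromSpecResidueField y ≫ g) f g (X.fromSpecResidueField x)
    (Y.fromSpecResidueField y) (𝟙 S) (Category.comp_id _) (Category.comp_id _)

instance : IsPreimmersion (tmap f g x y) := by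
  have : MorphismProperty.IsStableUnderComposition (@IsPreimmersion : MorphismProperty Scheme.{u}) :=
    ⟨fun f g _ _ => IsPreimmersion.comp f g⟩
  exact MorphismProperty.pullbackMap (P := (@IsPreimmersion : MorphismProperty Scheme.{u}))
    inferInstance inferInstance rfl rfl

theorem range_tmap : Set.range (tmap f g x y) =
    pullback.fst f g ⁻¹' {x} ∩ pullback.snd f g ⁻¹' {y} := by
  rw [Scheme.Pullback.range_map, Scheme.range_fromSpecResidueField, Scheme.range_fromSpecResidueField]

/-- `m_x O_z + m_y O_z`. -/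
noncomputable def fibIdeal (z : ↥(pullback f g)) : Ideal ((pullback f g).presheaf.stalk z) :=
  (maximalIdeal (X.presheaf.stalk (pullback.fst f g z))).map ((pullback.fst f g).stalkMap z).hom ⊔
    (maximalIdeal (Y.presheaf.stalk (pullback.snd f g z))).map ((pullback.snd f g).stalkMap z).hom

theorem ker_stalkMap_tmap (t : ↥(pullback (X.fromSpecResidueField x ≫ f) (Y.fromSpecResidueField y ≫ g))) :
    RingHom.ker ((tmap f g x y).stalkMap t).hom = fibIdeal f g (tmap f g x y t) := by
  set u := tmap f g x y with hu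
  set z := u t with hz
  have hxy : z ∈ pullback.fst f g ⁻¹' {x} ∩ pullback.snd f g ⁻¹' {y} := range_tmap f g x y ▸ ⟨t, rfl⟩
  set I := fibIdeal f g z with hI
  apply le_antisymm
  · have hle : I ≤ maximalIdeal ((pullback f g).presheaf.stalk z) :=
      sup_le (Ideal.map_le_iff_le_comap.2 fun r hr hu => hr (isUnit_of_map_unit _ r hu))
        (Ideal.map_le_iff_le_comap.2 fun r hr hu => hr (isUnit_of_map_unit _ r hu))
    have : Nontrivial ((pullback f g).presheaf.stalk z ⧸ I) :=
      Ideal.Quotient.nontrivial_iff.2 fun h =>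
        (maximalIdeal.isMaximal ((pullback f g).presheaf.stalk z)).ne_top (top_le_iff.1 (h ▸ hle))
    have : IsLocalRing ((pullback f g).presheaf.stalk z ⧸ I) :=
      .of_surjective' (Ideal.Quotient.mk I) Ideal.Quotient.mk_surjective
    let Q : CommRingCat.{u} := CommRingCat.of ((pullback f g).presheaf.stalk z ⧸ I)
    have : IsLocalRing Q := ‹IsLocalRing ((pullback f g).presheaf.stalk z ⧸ I)›
    let mk : (pullback f g).presheaf.stalk z ⟶ Q := CommRingCat.ofHom (Ideal.Quotient.mk I)
    obtain ⟨q1, hq1⟩ := Groth.Agent.H46.FiberStalk.exists_factor_residueField (pullback.fst f g) z Q mk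
      (fun r hr => Ideal.Quotient.eq_zero_iff_mem.2 (Ideal.mem_sup_left (Ideal.mem_map_of_mem _ hr))) x hxy.1
    obtain ⟨q2, hq2⟩ := Groth.Agent.H46.FiberStalk.exists_factor_residueField (pullback.snd f g) z Q mk
      (fun r hr => Ideal.Quotient.eq_zero_iff_mem.2 (Ideal.mem_sup_right (Ideal.mem_map_of_mem _ hr))) y hxy.2
    let h : Spec Q ⟶ pullback (X.fromSpecResidueField x ≫ f) (Y.fromSpecResidueField y ≫ g) :=
      pullback.lift q1 q2 (by
        rw [← Category.assoc, ← Category.assoc, hq1, hq2, Category.assoc, Category.assoc, Category.assoc,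
          Category.assoc, pullback.condition])
    have hhu : h ≫ u = Spec.map mk ≫ (pullback f g).fromSpecStalk z := by
      apply pullback.hom_ext <;> simp only [hu, tmap, Category.assoc, pullback.lift_fst, pullback.lift_snd,
        pullback.lift_fst_assoc, pullback.lift_snd_assoc, h]
      · exact hq1
      · exact hq2
    have hloc : IsLocalHom mk.hom :=
      .of_surjective (Ideal.Quotient.mk I) Ideal.Quotient.mk_surjective
    have hpt : h (closedPoint Q) = t := by
      apply u.isEmbedding.injective
      refine (congrArg (fun m : Spec Q ⟶ pullback f g => m (closedPoint Q)) hhu).trans ?_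
      show (pullback f g).fromSpecStalk z (Spec.map mk (closedPoint Q)) = u t
      have : Spec.map mk (closedPoint Q) = closedPoint ((pullback f g).presheaf.stalk z) :=
        IsLocalRing.comap_closedPoint mk.hom
      rw [this, Scheme.fromSpecStalk_closedPoint]
    let φ : (pullback (X.fromSpecResidueField x ≫ f) (Y.fromSpecResidueField y ≫ g)).presheaf.stalk t ⟶ Q :=
      (pullback (X.fromSpecResidueField x ≫ f) (Y.fromSpecResidueField y ≫ g)).presheaf.stalkSpecializes
        (specializes_of_eq hpt) ≫ Scheme.stalkClosedPointTo h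
    have key : u.stalkMap t ≫ φ = mk := by
      apply Spec.map_injective
      rw [← cancel_mono ((pullback f g).fromSpecStalk z), Spec.map_comp, Category.assoc,
        Scheme.SpecMap_stalkMap_fromSpecStalk, ← hhu, ← Category.assoc]
      congr 1
      simp only [φ, Spec.map_comp, Category.assoc,
        Scheme.SpecMap_stalkSpecializes_fromSpecStalk, Scheme.Spec_stalkClosedPointTo_fromSpecStalk]
    intro s hs
    have : mk.hom s = 0 := by
      rw [← key]
      show φ.hom ((u.stalkMap t).hom s) = 0
      rw [RingHom.mem_ker.1 hs, map_zero]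
    exact Ideal.Quotient.eq_zero_iff_mem.1 this
  · refine sup_le (Ideal.map_le_iff_le_comap.2 fun r hr => ?_) (Ideal.map_le_iff_le_comap.2 fun r hr => ?_)
    · have := Groth.Agent.H46.FiberStalk.stalkMap_eq_zero_of_factor_field (X.residueField x) (Field.toIsField _)
        (pullback.fst (X.fromSpecResidueField x ≫ f) (Y.fromSpecResidueField y ≫ g))
        (X.fromSpecResidueField x) (u ≫ pullback.fst f g) (pullback.lift_fst _ _ _) t r hr
      rw [Scheme.Hom.stalkMap_comp] at this
      exact this
    · have := Groth.Agent.H46.FiberStalk.stalkMap_eq_zero_of_factor_field (Y.residueField y) (Field.toIsField _)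
        (pullback.snd (X.fromSpecResidueField x ≫ f) (Y.fromSpecResidueField y ≫ g))
        (Y.fromSpecResidueField y) (u ≫ pullback.snd f g) (pullback.lift_snd _ _ _) t r hr
      rw [Scheme.Hom.stalkMap_comp] at this
      exact this

variable [IsLocallyNoetherian (pullback f g)]

theorem isNoetherianRing_T (t : ↥(pullback (X.fromSpecResidueField x ≫ f) (Y.fromSpecResidueField y ≫ g))) :
    IsNoetherianRing ((pullback (X.fromSpecResidueField x ≫ f) (Y.fromSpecResidueField y ≫ g)).presheaf.stalk t) :=
  isNoetherianRing_of_surjective _ _ ((tmap f g x y).stalkMap t).hom ((tmap f g x y).stalkMap_surjective t)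

/-- Associated points of `Spec κ(x) ×_S Spec κ(y)`, read in `O_z`. -/
theorem ass_T_iff (t : ↥(pullback (X.fromSpecResidueField x ≫ f) (Y.fromSpecResidueField y ≫ g))) :
    t ∈ AssSch.Ass (Coh.structureModule
        (pullback (X.fromSpecResidueField x ≫ f) (Y.fromSpecResidueField y ≫ g))) ↔
      HasAss ((pullback f g).presheaf.stalk (tmap f g x y t))
        ((pullback f g).presheaf.stalk (tmap f g x y t) ⧸ fibIdeal f g (tmap f g x y t)) := by
  have := isNoetherianRing_T f g x y t
  let φ := ((tmap f g x y).stalkMap t).hom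
  have hφ : Function.Surjective φ := (tmap f g x y).stalkMap_surjective t
  let e := (Ideal.quotEquivOfEq (ker_stalkMap_tmap f g x y t).symm).trans
    (RingHom.quotientKerEquivOfSurjective hφ)
  refine (isAssPoint_structure_iff t).trans (hasAss_of_surjective φ hφ e.toAddEquiv fun s w => ?_).symm
  obtain ⟨w, rfl⟩ := Ideal.Quotient.mk_surjective w
  show e (Ideal.Quotient.mk _ (s * w)) = φ s * e (Ideal.Quotient.mk _ w)
  rw [map_mul, map_mul]
  congr 1

end T

section Main

variable {X Y S : Scheme.{u}} (f : X ⟶ S) (g : Y ⟶ S) [IsLocallyNoetherian X] [IsLocallyNoetherian Y]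
  [IsLocallyNoetherian (pullback f g)] (F : X.Modules) (G : Y.Modules)

/-- The module `F ⊗_S G`. -/
noncomputable abbrev prodMod : (pullback f g).Modules :=
  CohB1.tensorMod ((Scheme.Modules.pullback (pullback.fst f g)).obj F)
    ((Scheme.Modules.pullback (pullback.snd f g)).obj G)

theorem mem_ass_prod_iff (hG : FlatMod.IsFlatOver g G) (z : ↥(pullback f g)) :
    z ∈ AssSch.Ass (prodMod f g F G) ↔
      pullback.fst f g z ∈ AssSch.Ass F ∧
        ∃ (y' : ↥(g.fiber (f (pullback.fst f g z)))), g.fiberι (f (pullback.fst f g z)) y' = pullback.snd f g z ∧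
          y' ∈ AssSch.Ass ((Scheme.Modules.pullback (g.fiberι (f (pullback.fst f g z)))).obj G) ∧
          HasAss ((pullback f g).presheaf.stalk z) ((pullback f g).presheaf.stalk z ⧸ fibIdeal f g z) := by
  let p := pullback.fst f g
  let q := pullback.snd f g
  obtain ⟨x, hx⟩ : ∃ x, p z = x := ⟨_, rfl⟩
  obtain ⟨a, rfl⟩ : z ∈ Set.range (p.fiberι x) := by rw [p.range_fiberι]; exact hx
  have key := mem_ass_tot_iff' (f := p) (E := F) (isFlatOver_snd_pullback f g G hG) (y := x) (a := a)
  rw [show (pullback.fst f g) (p.fiberι x a) = x from hx]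
  refine key.trans (and_congr_right fun _ => ?_)
  -- the map between the fibres
  let b := Scheme.Hom.residueFieldMap f x
  have hb : Spec.map b ≫ S.fromSpecResidueField (f x) = X.fromSpecResidueField x ≫ f :=
    Scheme.Hom.SpecMap_residueFieldMap_fromSpecResidueField f x
  have hP : IsPullback (p.fiberι x) (p.fiberToSpecResidueField x) p (X.fromSpecResidueField x) :=
    IsPullback.of_hasPullback p (X.fromSpecResidueField x)
  have hY : IsPullback (g.fiberι (f x)) (g.fiberToSpecResidueField (f x)) g (S.fromSpecResidueField (f x)) :=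
    IsPullback.of_hasPullback g (S.fromSpecResidueField (f x))
  let h : p.fiber x ⟶ g.fiber (f x) := hY.lift (p.fiberι x ≫ q) (p.fiberToSpecResidueField x ≫ Spec.map b) (by
    rw [Category.assoc, Category.assoc, hb, ← pullback.condition, ← Category.assoc, ← Category.assoc, hP.w])
  have hι : h ≫ g.fiberι (f x) = p.fiberι x ≫ q := hY.lift_fst _ _ _
  have h₁ : IsPullback h (p.fiberToSpecResidueField x) (g.fiberToSpecResidueField (f x)) (Spec.map b) := by
    refine IsPullback.of_right ?_ (hY.lift_snd _ _ _) hY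
    rw [hι, hb]
    exact hP.paste_horiz (IsPullback.of_hasPullback f g).flip
  have : Flat (Spec.map b) := FibreDeg.Basic.flat_of_field _
  have : Flat h := MorphismProperty.of_isPullback (P := @Flat) h₁.flip inferInstance
  have : IsNoetherianRing ((p.fiber x).presheaf.stalk a) := isNoetherianRing_fibre_stalk p x a
  have : IsNoetherianRing ((g.fiber (f x)).presheaf.stalk (h a)) := isNoetherianRing_fibre_stalk g (f x) (h a)
  have hha : g.fiberι (f x) (h a) = q (p.fiberι x a) := by
    rw [← Scheme.Hom.comp_apply, hι, Scheme.Hom.comp_apply]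
  let ei : (Scheme.Modules.pullback (p.fiberι x)).obj ((Scheme.Modules.pullback q).obj G) ≅
      (Scheme.Modules.pullback h).obj ((Scheme.Modules.pullback (g.fiberι (f x))).obj G) :=
    (Scheme.Modules.pullbackComp (p.fiberι x) q).app G ≪≫ (Scheme.Modules.pullbackCongr hι.symm).app G ≪≫
      ((Scheme.Modules.pullbackComp h (g.fiberι (f x))).app G).symm
  have step : a ∈ AssSch.Ass ((Scheme.Modules.pullback (p.fiberι x)).obj ((Scheme.Modules.pullback q).obj G)) ↔
      a ∈ AssSch.Ass ((Scheme.Modules.pullback h).obj ((Scheme.Modules.pullback (g.fiberι (f x))).obj G)) :=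
    hasAss_congr (Modules.StalkModule.stalkLinearEquiv ei a)
  rw [step, ass_pullback_iff h _ a]
  -- compare the ideals
  let _ : Algebra ((g.fiber (f x)).presheaf.stalk (h a)) ((p.fiber x).presheaf.stalk a) :=
    (h.stalkMap a).hom.toAlgebra
  let z := p.fiberι x a
  let φ := ((p.fiberι x).stalkMap a).hom
  have hφ : Function.Surjective φ := (p.fiberι x).stalkMap_surjective a
  let Q := (p.fiber x).presheaf.stalk a
  let J := mS ((g.fiber (f x)).presheaf.stalk (h a)) Q
  have hJ : J = (fibIdeal f g z).map φ := by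
    have hker : (maximalIdeal (X.presheaf.stalk (p z))).map (p.stalkMap z).hom ≤ RingHom.ker φ :=
      (Groth.Agent.H46.FiberStalk.ker_stalkMap_fiberι p x a).ge
    rw [fibIdeal, Ideal.map_sup, (Ideal.map_eq_bot_iff_le_ker φ).mpr hker, bot_sup_eq]
    have hw : (g.fiberι (f x)) (h a) = q z := hha
    have hι' : (g.fiberι (f x)).stalkMap (h a) ≫ h.stalkMap a =
        Y.presheaf.stalkSpecializes (specializes_of_eq hw.symm) ≫ q.stalkMap z ≫ (p.fiberι x).stalkMap a := by
      apply Spec.map_injective
      rw [← cancel_mono (Y.fromSpecStalk _)]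
      simp only [Spec.map_comp, Category.assoc, Scheme.SpecMap_stalkSpecializes_fromSpecStalk,
        Scheme.SpecMap_stalkMap_fromSpecStalk, Scheme.SpecMap_stalkMap_fromSpecStalk_assoc, hι]
      rw [← Category.assoc, ← Category.assoc]
      congr 1
      exact (Scheme.SpecMap_stalkMap_fromSpecStalk (p.fiberι x) (x := a)).symm
    have h1 := congrArg (fun m => (maximalIdeal (Y.presheaf.stalk ((g.fiberι (f x)) (h a)))).map m.hom) hι'
    simp only [CommRingCat.hom_comp, ← Ideal.map_map, map_maximalIdeal_of_surjective _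
      ((g.fiberι (f x)).stalkMap_surjective (h a)), map_stalkSpecializes hw] at h1
    exact h1
  let e : ((pullback f g).presheaf.stalk z ⧸ fibIdeal f g z) ≃+* Q ⧸ J :=
    RingEquiv.ofBijective (Ideal.quotientMap J φ (by rw [hJ]; exact Ideal.le_comap_map)) ⟨by
      refine Ideal.quotientMap_injective' ?_
      rw [hJ, Ideal.comap_map_of_surjective φ hφ, ← RingHom.ker_eq_comap_bot]
      refine sup_le le_rfl ?_
      rw [show RingHom.ker φ = _ from Groth.Agent.H46.FiberStalk.ker_stalkMap_fiberι p x a]
      exact le_sup_left, Ideal.quotientMap_surjective hφ⟩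
  have hiff : HasAss ((pullback f g).presheaf.stalk z) ((pullback f g).presheaf.stalk z ⧸ fibIdeal f g z) ↔
      HasAss Q (Q ⧸ (J • (⊤ : Submodule Q Q))) := by
    let e' : (Q ⧸ J) ≃ₗ[Q] (Q ⧸ (J • (⊤ : Submodule Q Q))) :=
      Submodule.quotEquivOfEq J (J • ⊤) (by rw [Ideal.smul_eq_mul, Ideal.mul_top])
    rw [← hasAss_congr e']
    refine hasAss_of_surjective φ hφ e.toAddEquiv fun s w => ?_
    obtain ⟨w, rfl⟩ := Ideal.Quotient.mk_surjective w
    show e (Ideal.Quotient.mk _ (s * w)) = Ideal.Quotient.mk J (φ s) * e (Ideal.Quotient.mk _ w)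
    rw [map_mul, map_mul]
    congr 1
  rw [← hiff]
  constructor
  · rintro ⟨h1, h2⟩
    exact ⟨h a, hha, h1, h2⟩
  · rintro ⟨y', hy', h1, h2⟩
    obtain rfl := (g.fiberι (f x)).isEmbedding.injective (hy'.trans hha.symm)
    exact ⟨h1, h2⟩

end Main

end Groth.Agent.H52.Ass.FlatTensorProd
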