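import Groth.Agent.H52.Ass.FlatTensorProd
import Groth.Agent.H52.FBase.NoEmbProd

/-!
Corollaries of the description of the associated points of `F ⊗_S G`.
-/

universe u

open CategoryTheory CategoryTheory.Limits AlgebraicGeometry TensorProduct IsLocalRing

namespace Groth.Agent.H52.Ass.FlatTensorProd

open Groth.Agent.H52.Ass.FlatTensor Groth.Agent.H52.Ass.FlatTensorScheme Groth.Agent.Lib
open Groth.Agent.Lib.AssPt.Basic Groth.Agent.Lib.Flat55

section Cor

variable {X Y S : Scheme.{u}} (f : X ⟶ S) (g : Y ⟶ S) [IsLocallyNoetherian X] [IsLocallyNoetherian Y]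
  [IsLocallyNoetherian (pullback f g)] (F : X.Modules) (G : Y.Modules)

theorem mem_ass_prod_iff' (hG : FlatMod.IsFlatOver g G) (z : ↥(pullback f g)) :
    z ∈ AssSch.Ass (prodMod f g F G) ↔
      ∃ x ∈ AssSch.Ass F, ∃ y' ∈ AssSch.Ass ((Scheme.Modules.pullback (g.fiberι (f x))).obj G),
        z ∈ tmap f g x (g.fiberι (f x) y') '' AssSch.Ass (Coh.structureModule
          (pullback (X.fromSpecResidueField x ≫ f) (Y.fromSpecResidueField (g.fiberι (f x) y') ≫ g))) := by
  rw [mem_ass_prod_iff f g F G hG z]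
  constructor
  · rintro ⟨hx, y', hy', hy'G, hz⟩
    refine ⟨_, hx, y', hy'G, ?_⟩
    obtain ⟨t, ht⟩ : z ∈ Set.range (tmap f g (pullback.fst f g z)
        (g.fiberι (f (pullback.fst f g z)) y')) := by
      rw [range_tmap]; exact ⟨rfl, hy'.symm⟩
    refine ⟨t, (ass_T_iff f g _ _ t).mpr ?_, ht⟩
    rw [ht]
    exact hz
  · rintro ⟨x, hx, y', hy'G, t, ht, rfl⟩
    obtain ⟨h1, h2⟩ : tmap f g x (g.fiberι (f x) y') t ∈
        pullback.fst f g ⁻¹' {x} ∩ pullback.snd f g ⁻¹' {g.fiberι (f x) y'} :=
      range_tmap f g x _ ▸ ⟨t, rfl⟩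
    have h2' : pullback.snd f g (tmap f g x (g.fiberι (f x) y') t) = g.fiberι (f x) y' := h2
    have h1' : pullback.fst f g (tmap f g x (g.fiberι (f x) y') t) = x := h1
    have key : ∀ (w : ↥(pullback f g)) (x : X) (y' : g.fiber (f x)), pullback.fst f g w = x →
        pullback.snd f g w = g.fiberι (f x) y' → x ∈ AssSch.Ass F →
        y' ∈ AssSch.Ass ((Scheme.Modules.pullback (g.fiberι (f x))).obj G) →
        HasAss ((pullback f g).presheaf.stalk w) ((pullback f g).presheaf.stalk w ⧸ fibIdeal f g w) →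
        (pullback.fst f g w ∈ AssSch.Ass F ∧
          ∃ (y' : ↥(g.fiber (f (pullback.fst f g w)))), g.fiberι (f (pullback.fst f g w)) y' = pullback.snd f g w ∧
            y' ∈ AssSch.Ass ((Scheme.Modules.pullback (g.fiberι (f (pullback.fst f g w)))).obj G) ∧
            HasAss ((pullback f g).presheaf.stalk w) ((pullback f g).presheaf.stalk w ⧸ fibIdeal f g w)) := by
      rintro w x y' rfl h2 hx hy' hw
      exact ⟨hx, y', h2.symm, hy', hw⟩
    exact key _ x y' h1' h2' hx hy'G ((ass_T_iff f g _ _ t).mp ht)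

omit [IsLocallyNoetherian X] [IsLocallyNoetherian (pullback f g)] in
theorem ass_iff_of_flat [IsLocallyNoetherian S] (hG : FlatMod.IsFlatOver g G) (s : S) (a : g.fiber s) :
    g.fiberι s a ∈ AssSch.Ass G ↔ s ∈ AssSch.Ass (Coh.structureModule S) ∧
      a ∈ AssSch.Ass ((Scheme.Modules.pullback (g.fiberι s)).obj G) := by
  let y := g.fiberι s a
  have hy : g y = s := by
    have : y ∈ g ⁻¹' {s} := by rw [← g.range_fiberι s]; exact ⟨a, rfl⟩
    exact this
  let _ : Algebra (S.presheaf.stalk (g y)) (Y.presheaf.stalk y) := (g.stalkMap y).hom.toAlgebra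
  let _ := FlatMod.moduleStalkOver g G y
  have : IsScalarTower (S.presheaf.stalk (g y)) (Y.presheaf.stalk y) (G.presheaf.stalk y) :=
    ⟨fun r s v => mul_smul ((g.stalkMap y).hom r) s v⟩
  have : IsLocalHom (algebraMap (S.presheaf.stalk (g y)) (Y.presheaf.stalk y)) :=
    inferInstanceAs (IsLocalHom (g.stalkMap y).hom)
  have : Module.Flat (S.presheaf.stalk (g y)) (G.presheaf.stalk y) := hG y
  rw [hasAss_fibre_iff g G s a, mem_ass_iff,
    ← hasAss_congr (AlgebraTensorModule.rid (S.presheaf.stalk (g y)) (Y.presheaf.stalk y) (G.presheaf.stalk y)),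
    hasAss_tensor_iff]
  have e : HasAss (S.presheaf.stalk (g y)) (S.presheaf.stalk (g y)) ↔
      g y ∈ AssSch.Ass (Coh.structureModule S) := (isAssPoint_structure_iff (g y)).symm
  exact and_congr (e.trans (by rw [hy])) Iff.rfl

omit [IsLocallyNoetherian X] [IsLocallyNoetherian Y] [IsLocallyNoetherian (pullback f g)] in
theorem exists_iso_T (x : X) (y : Y) (s : S) (hx : f x = s) (hy : g y = s) :
    ∃ (a : S.residueField s ⟶ X.residueField x) (b : S.residueField s ⟶ Y.residueField y),
      Nonempty (pullback (X.fromSpecResidueField x ≫ f) (Y.fromSpecResidueField y ≫ g) ≅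
        pullback (Spec.map a) (Spec.map b)) := by
  subst hx
  obtain ⟨b, hb⟩ : ∃ b : S.residueField (f x) ⟶ Y.residueField y,
      Spec.map b ≫ S.fromSpecResidueField (f x) = Y.fromSpecResidueField y ≫ g := by
    rw [← hy]
    exact ⟨_, Scheme.Hom.SpecMap_residueFieldMap_fromSpecResidueField g y⟩
  let a := Scheme.Hom.residueFieldMap f x
  have ha := Scheme.Hom.SpecMap_residueFieldMap_fromSpecResidueField f x
  refine ⟨a, b, ⟨{
    hom := pullback.lift (pullback.fst _ _) (pullback.snd _ _) (by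
      rw [← cancel_mono (S.fromSpecResidueField (f x)), Category.assoc, Category.assoc, ha, hb,
        pullback.condition])
    inv := pullback.lift (pullback.fst _ _) (pullback.snd _ _) (by
      rw [← ha, ← hb, pullback.condition_assoc])
    hom_inv_id := by apply pullback.hom_ext <;> simp only [Category.assoc, Category.id_comp, pullback.lift_fst, pullback.lift_snd]
    inv_hom_id := by apply pullback.hom_ext <;> simp only [Category.assoc, Category.id_comp, pullback.lift_fst, pullback.lift_snd] }⟩⟩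

theorem minimalPrimes_of_fields {k A L : Type u} [Field k] [Field A] [Field L] [Algebra k A]
    [Algebra k L] (q : Ideal (A ⊗[k] L)) [q.IsPrime]
    (h : IsAssociatedPrime (IsLocalRing.maximalIdeal (Localization.AtPrime q)) (Localization.AtPrime q)) :
    q ∈ minimalPrimes (A ⊗[k] L) :=
  Groth.Agent.H52.FBase.TensorPrimary.minimalPrimes_tensor_field (N := 1)
    (by rw [pow_one]; exact isField_iff_maximalIdeal_eq.mp (Field.toIsField A)) q h

theorem genericPoints_of_fields {k A L : Type u} [Field k] [Field A] [Field L] [Algebra k A]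
    [Algebra k L] (T : Scheme.{u})
    (e : T ≅ pullback (Spec.map (CommRingCat.ofHom (algebraMap k A))) (Spec.map (CommRingCat.ofHom (algebraMap k L))))
    (t : T) (ht : MaxAssoc (T.presheaf.stalk t)) : t ∈ genericPoints T := by
  let j : Spec (CommRingCat.of (A ⊗[k] L)) ⟶ T := (pullbackSpecIso k A L).inv ≫ e.inv
  obtain ⟨q, rfl⟩ := j.surjective t
  have : Ideal.IsPrime (PrimeSpectrum.asIdeal (R := A ⊗[k] L) q) := q.isPrime
  let eq : T.presheaf.stalk (j q) ≃+*
      Localization.AtPrime (PrimeSpectrum.asIdeal (R := A ⊗[k] L) q) :=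
    ((asIso (j.stalkMap q)).commRingCatIsoToRingEquiv).trans (Spec.stalkIso _ q).commRingCatIsoToRingEquiv
  exact Groth.Agent.H52.FBase.NoEmb.mem_genericPoints_of_minimal _ _ eq
    (minimalPrimes_of_fields _ (Groth.Agent.H52.FBase.NoEmb.maxAssoc_of_ringEquiv eq ht))

omit [IsLocallyNoetherian X] [IsLocallyNoetherian Y] [IsLocallyNoetherian (pullback f g)] in
/-- Every associated point of `Spec κ(x) ×_S Spec κ(y)` is a generic point. -/
theorem genericPoints_T (x : X) (y : Y)
    (t : ↥(pullback (X.fromSpecResidueField x ≫ f) (Y.fromSpecResidueField y ≫ g)))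
    (ht : MaxAssoc ((pullback (X.fromSpecResidueField x ≫ f) (Y.fromSpecResidueField y ≫ g)).presheaf.stalk t)) :
    t ∈ genericPoints (pullback (X.fromSpecResidueField x ≫ f) (Y.fromSpecResidueField y ≫ g) : Scheme.{u}) := by
  have hy : g y = f x := by
    have := congrArg (fun m : pullback (X.fromSpecResidueField x ≫ f) (Y.fromSpecResidueField y ≫ g) ⟶ S => m t)
      pullback.condition
    simp only [Scheme.Hom.comp_apply, Scheme.fromSpecResidueField_apply] at this
    exact this.symm
  obtain ⟨a, b, ⟨e⟩⟩ := exists_iso_T f g x y (f x) rfl hy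
  let _ : Algebra (S.residueField (f x)) (X.residueField x) := a.hom.toAlgebra
  let _ : Algebra (S.residueField (f x)) (Y.residueField y) := b.hom.toAlgebra
  exact genericPoints_of_fields (k := S.residueField (f x)) (A := X.residueField x) (L := Y.residueField y)
    _ e t ht

theorem noEmbedded_prod (hG : FlatMod.IsFlatOver g G)
    (hF : AssSch.NoEmbedded F)
    (hGne : ∀ x ∈ AssSch.Ass F, ∀ a ∈ AssSch.Ass ((Scheme.Modules.pullback (g.fiberι (f x))).obj G),
      ∀ b ∈ AssSch.Ass ((Scheme.Modules.pullback (g.fiberι (f x))).obj G), b ⤳ a → a = b) :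
    AssSch.NoEmbedded (prodMod f g F G) := by
  intro z1 hz1 z2 hz2 hsp
  obtain ⟨x, hx, a, ha, t1, ht1, rfl⟩ := (mem_ass_prod_iff' f g F G hG _).mp hz1
  obtain ⟨x', hx', b, hb, t2, ht2, rfl⟩ := (mem_ass_prod_iff' f g F G hG _).mp hz2
  obtain ⟨h1, h1'⟩ : tmap f g x (g.fiberι (f x) a) t1 ∈ _ :=
    (range_tmap f g x (g.fiberι (f x) a)).le ⟨t1, rfl⟩
  obtain ⟨h2, h2'⟩ : tmap f g x' (g.fiberι (f x') b) t2 ∈ _ :=
    (range_tmap f g x' (g.fiberι (f x') b)).le ⟨t2, rfl⟩
  have hxx := hsp.map (pullback.fst f g).continuous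
  have hyy := hsp.map (pullback.snd f g).continuous
  rw [show (pullback.fst f g) _ = x from h1, show (pullback.fst f g) _ = x' from h2] at hxx
  rw [show (pullback.snd f g) _ = _ from h1', show (pullback.snd f g) _ = _ from h2'] at hyy
  obtain rfl := hF x hx x' hx' hxx
  obtain rfl := hGne x hx a ha b hb ((g.fiberι (f x)).isEmbedding.isInducing.specializes_iff.mp hyy)
  have hsp' := (tmap f g x (g.fiberι (f x) a)).isEmbedding.isInducing.specializes_iff.mp hsp
  rw [GenericPoints.eq_of_specializes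
    (genericPoints_T f g x _ t1 ((isAssPoint_structure_iff t1).mp ht1)) hsp']

end Cor

end Groth.Agent.H52.Ass.FlatTensorProd
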