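import Groth.Agent.H52.Ass.FlatTensorProdCor
import Mathlib.RingTheory.TensorProduct.Quotient

/-!
Reduced modules under flat base change: stalks at associated points.
-/

universe u

open CategoryTheory CategoryTheory.Limits AlgebraicGeometry TensorProduct IsLocalRing

namespace Groth.Agent.H52.Ass.RedMod

open Groth.Agent.H52.Ass.FlatTensor Groth.Agent.H52.Ass.FlatTensorScheme Groth.Agent.H52.Ass.FlatTensorProd
open Groth.Agent.Lib Groth.Agent.Lib.Flat55

theorem nonempty_equiv_residue {R M : Type*} [CommRing R] [IsLocalRing R] [AddCommGroup M] [Module R M]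
    (h : Module.length R M = 1) : Nonempty (M ≃ₗ[R] R ⧸ maximalIdeal R) := by
  obtain ⟨m, hm, e⟩ := isSimpleModule_iff_quot_maximal.mp (Module.length_eq_one_iff.mp h)
  obtain rfl := IsLocalRing.eq_maximalIdeal hm
  exact e

theorem length_quot_eq_one {S : Type*} [CommRing S] {J : Ideal S} :
    Module.length S (S ⧸ J) = 1 ↔ J.IsMaximal :=
  Module.length_eq_one_iff.trans (isSimpleModule_iff_isCoatom.trans Ideal.isMaximal_def.symm)

theorem eq_maximal_of_socle {S : Type u} [CommRing S] [IsLocalRing S] [IsNoetherianRing S] {J : Ideal S}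
    [_root_.IsReduced (S ⧸ J)] (h : HasAss S (S ⧸ J)) : J = maximalIdeal S := by
  obtain ⟨v, hv, hv'⟩ := exists_socle h
  obtain ⟨s, rfl⟩ := Ideal.Quotient.mk_surjective v
  have hs : IsUnit s := by
    by_contra hns
    exact hv (IsReduced.eq_zero _ ⟨2, by rw [sq]; exact hv' s hns⟩)
  refine le_antisymm (IsLocalRing.le_maximalIdeal fun hJ => hv ?_) fun a ha => ?_
  · exact Ideal.Quotient.eq_zero_iff_mem.mpr (hJ ▸ Submodule.mem_top)
  · have := hv' a ha
    exact (Ideal.mul_unit_mem_iff_mem J hs).mp (Ideal.Quotient.eq_zero_iff_mem.mp this)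

variable {T X : Scheme.{u}} (h : T ⟶ X)

/-- The ideal `m_x O_z`. -/
noncomputable def mI (z : T) : Ideal (T.presheaf.stalk z) :=
  (maximalIdeal (X.presheaf.stalk (h z))).map (h.stalkMap z).hom

theorem pullback_stalk_equiv (F : X.Modules) (z : T)
    (hl : Module.length (X.presheaf.stalk (h z)) (F.presheaf.stalk (h z)) = 1) :
    Nonempty (((Scheme.Modules.pullback h).obj F).presheaf.stalk z ≃ₗ[T.presheaf.stalk z]
      T.presheaf.stalk z ⧸ mI h z) := by
  obtain ⟨e⟩ := nonempty_equiv_residue hl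
  let _ : Algebra (X.presheaf.stalk (h z)) (T.presheaf.stalk z) := (h.stalkMap z).hom.toAlgebra
  let e2 : T.presheaf.stalk z ⊗[X.presheaf.stalk (h z)] F.presheaf.stalk (h z) ≃ₗ[T.presheaf.stalk z]
      ((Scheme.Modules.pullback h).obj F).presheaf.stalk z :=
    ((DerivedOX.PullbackStalk.pullbackStalkIso h z).app F).toLinearEquiv
  exact ⟨e2.symm.trans ((AlgebraTensorModule.congr (LinearEquiv.refl _ _) e).trans
    (Algebra.TensorProduct.quotIdealMapEquivTensorQuot (T.presheaf.stalk z)
      (maximalIdeal (X.presheaf.stalk (h z)))).symm.toLinearEquiv)⟩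

theorem length_pullback_eq_one (F : X.Modules) (z : T)
    (hl : Module.length (X.presheaf.stalk (h z)) (F.presheaf.stalk (h z)) = 1) :
    Module.length (T.presheaf.stalk z) (((Scheme.Modules.pullback h).obj F).presheaf.stalk z) = 1 ↔
      (mI h z).IsMaximal := by
  obtain ⟨e⟩ := pullback_stalk_equiv h F z hl
  rw [e.length_eq, length_quot_eq_one]

theorem mI_fiberι (x : X) (a : h.fiber x) :
    RingHom.ker ((h.fiberι x).stalkMap a).hom = mI h (h.fiberι x a) :=
  Groth.Agent.H46.FiberStalk.ker_stalkMap_fiberι h x a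

theorem exists_fiber_point (z : T) : ∃ a : h.fiber (h z), h.fiberι (h z) a = z := by
  have : z ∈ Set.range (h.fiberι (h z)) := by rw [h.range_fiberι]; rfl
  exact this

theorem isReduced_quot {x : X} (hfib : ∀ a : h.fiber x, _root_.IsReduced ((h.fiber x).presheaf.stalk a))
    (z : T) (hz : h z = x) : _root_.IsReduced (T.presheaf.stalk z ⧸ mI h z) := by
  subst hz
  obtain ⟨a, ha⟩ := exists_fiber_point h z
  suffices _root_.IsReduced (T.presheaf.stalk (h.fiberι (h z) a) ⧸ mI h (h.fiberι (h z) a)) by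
    rwa [ha] at this
  have := hfib a
  rw [← mI_fiberι]
  exact isReduced_of_injective _ (RingHom.kerLift_injective ((h.fiberι (h z)).stalkMap a).hom)

theorem isMaximal_mI_iff_isField (x : X) (a : h.fiber x) :
    (mI h (h.fiberι x a)).IsMaximal ↔ IsField ((h.fiber x).presheaf.stalk a) := by
  rw [← mI_fiberι, Ideal.Quotient.maximal_ideal_iff_isField_quotient]
  have e := RingHom.quotientKerEquivOfSurjective ((h.fiberι x).stalkMap_surjective a)
  exact ⟨fun hf => MulEquiv.isField hf e.toMulEquiv.symm, fun hf => MulEquiv.isField hf e.toMulEquiv⟩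

section Flat

variable [Flat h] [IsLocallyNoetherian T] [IsLocallyNoetherian X] (F : X.Modules)

theorem mem_ass_pullback (z : T) :
    z ∈ AssSch.Ass ((Scheme.Modules.pullback h).obj F) ↔
      h z ∈ AssSch.Ass F ∧ HasAss (T.presheaf.stalk z) (T.presheaf.stalk z ⧸ mI h z) := by
  refine (ass_pullback_iff h F z).trans (and_congr_right fun _ => ?_)
  exact hasAss_congr (Submodule.quotEquivOfEq _ _ (by rw [Ideal.smul_eq_mul, Ideal.mul_top]; rfl))

/-- A reduced module pulls back to a reduced module along a flat map with reduced fibres. -/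
theorem isReducedMod_pullback (hF : AssSch.IsReducedMod F)
    (hfib : ∀ x ∈ AssSch.Ass F, ∀ a : h.fiber x, _root_.IsReduced ((h.fiber x).presheaf.stalk a)) :
    AssSch.IsReducedMod ((Scheme.Modules.pullback h).obj F) := by
  have key : ∀ z ∈ AssSch.Ass ((Scheme.Modules.pullback h).obj F), (mI h z).IsMaximal := fun z hz => by
    obtain ⟨hx, hz'⟩ := (mem_ass_pullback h F z).mp hz
    have := isReduced_quot h (hfib _ hx) z rfl
    rw [eq_maximal_of_socle hz']
    exact maximalIdeal.isMaximal _
  refine ⟨fun a ha b hb hba => ?_, fun z hz => (length_pullback_eq_one h F z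
    (hF.2 _ ((mem_ass_pullback h F z).mp hz).1)).mpr (key z hz)⟩
  have hx := hF.1 _ ((mem_ass_pullback h F a).mp ha).1 _ ((mem_ass_pullback h F b).mp hb).1
    (hba.map h.continuous)
  obtain ⟨b', hb'⟩ : b ∈ Set.range (h.fiberι (h a)) := by rw [h.range_fiberι]; exact hx.symm
  obtain ⟨a', ha'⟩ := exists_fiber_point h a
  rw [← ha', ← hb'] at hba ⊢
  have hsp := (h.fiberι (h a)).isEmbedding.isInducing.specializes_iff.mp hba
  have hgen : a' ∈ genericPoints (h.fiber (h a)) := by
    rw [Groth.Agent.H52.FBase.NoEmb.mem_genericPoints_iff]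
    have hfld := (isMaximal_mI_iff_isField h _ a').mp (key (h.fiberι (h a) a') (ha'.symm ▸ ha))
    intro c hc
    rw [IsLocalRing.isField_iff_maximalIdeal_eq.mp hfld] at hc
    exact ⟨1, by rw [pow_one]; exact hc⟩
  rw [GenericPoints.eq_of_specializes hgen hsp]

/-- Fibres with a nilpotent maximal ideal at an associated point are fields. -/
theorem isField_of_isReducedMod (hh : AssSch.IsReducedMod ((Scheme.Modules.pullback h).obj F)) {x : X}
    (hx : x ∈ AssSch.Ass F) (hl : Module.length (X.presheaf.stalk x) (F.presheaf.stalk x) = 1)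
    (a : h.fiber x) (hn : ∃ N, maximalIdeal ((h.fiber x).presheaf.stalk a) ^ N = ⊥) :
    IsField ((h.fiber x).presheaf.stalk a) := by
  rw [← isMaximal_mI_iff_isField]
  have hxa : h (h.fiberι x a) = x := by
    have : h.fiberι x a ∈ h ⁻¹' {x} := by rw [← h.range_fiberι]; exact ⟨a, rfl⟩
    exact this
  let Q := (h.fiber x).presheaf.stalk a
  have : IsNoetherianRing Q := isNoetherianRing_fibre_stalk h x a
  let φ := ((h.fiberι x).stalkMap a).hom
  let e : (T.presheaf.stalk (h.fiberι x a) ⧸ mI h (h.fiberι x a)) ≃+* Q :=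
    (Ideal.quotEquivOfEq (mI_fiberι h x a).symm).trans
      (RingHom.quotientKerEquivOfSurjective ((h.fiberι x).stalkMap_surjective a))
  obtain ⟨N, hN⟩ := hn
  obtain ⟨w, hw, hw', -⟩ := exists_socle_of_pow (R := Q) (M := Q) one_ne_zero (n := N)
    fun c hc => by rw [hN] at hc; rw [show c = 0 from hc, zero_smul]
  have hass : HasAss (T.presheaf.stalk (h.fiberι x a)) (T.presheaf.stalk (h.fiberι x a) ⧸ mI h (h.fiberι x a)) := by
    refine (hasAss_of_surjective φ ((h.fiberι x).stalkMap_surjective a) e.toAddEquiv fun s w => ?_).mpr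
      (hasAss_of_socle hw hw')
    obtain ⟨w, rfl⟩ := Ideal.Quotient.mk_surjective w
    show e (Ideal.Quotient.mk _ (s * w)) = φ s * e (Ideal.Quotient.mk _ w)
    rw [map_mul, map_mul]
    rfl
  refine (length_pullback_eq_one h F _ (by rw [hxa]; exact hl)).mp
    (hh.2 _ ((mem_ass_pullback h F _).mpr ⟨by rw [hxa]; exact hx, hass⟩))

theorem isReducedMod_of_iso [IsIso h] (hh : AssSch.IsReducedMod ((Scheme.Modules.pullback h).obj F)) :
    AssSch.IsReducedMod F := by
  have hmax : ∀ z, mI h z = maximalIdeal (T.presheaf.stalk z) := fun z =>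
    FlatTensorProd.map_maximalIdeal_of_surjective (h.stalkMap z).hom
      (ConcreteCategory.bijective_of_isIso (h.stalkMap z)).2
  have hass : ∀ z, z ∈ AssSch.Ass ((Scheme.Modules.pullback h).obj F) ↔ h z ∈ AssSch.Ass F := fun z => by
    refine (mem_ass_pullback h F z).trans (and_iff_left ?_)
    rw [hmax]
    refine hasAss_of_socle (v := 1) one_ne_zero fun c hc => ?_
    rw [Algebra.smul_def, mul_one]
    exact Ideal.Quotient.eq_zero_iff_mem.mpr hc
  refine ⟨fun a ha b hb hba => ?_, fun x hx => ?_⟩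
  · obtain ⟨a, rfl⟩ := h.surjective a
    obtain ⟨b, rfl⟩ := h.surjective b
    exact congrArg h (hh.1 a ((hass a).mpr ha) b ((hass b).mpr hb) (h.isEmbedding.isInducing.specializes_iff.mp hba))
  · obtain ⟨z, rfl⟩ := h.surjective x
    let _ : Algebra (X.presheaf.stalk (h z)) (T.presheaf.stalk z) := (h.stalkMap z).hom.toAlgebra
    have hs : Function.Surjective (algebraMap (X.presheaf.stalk (h z)) (T.presheaf.stalk z)) :=
      (ConcreteCategory.bijective_of_isIso (h.stalkMap z)).2
    let eA : X.presheaf.stalk (h z) ≃ₗ[X.presheaf.stalk (h z)] T.presheaf.stalk z :=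
      (AlgEquiv.ofBijective (Algebra.ofId _ _) (ConcreteCategory.bijective_of_isIso (h.stalkMap z))).toLinearEquiv
    let e2 : T.presheaf.stalk z ⊗[X.presheaf.stalk (h z)] F.presheaf.stalk (h z) ≃ₗ[T.presheaf.stalk z]
        ((Scheme.Modules.pullback h).obj F).presheaf.stalk z :=
      ((DerivedOX.PullbackStalk.pullbackStalkIso h z).app F).toLinearEquiv
    rw [← hh.2 z ((hass z).mpr hx), ← e2.length_eq, ← Module.length_eq_of_surjective hs]
    exact ((TensorProduct.lid _ _).symm.trans (TensorProduct.congr eA (LinearEquiv.refl _ _))).length_eq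

end Flat

end Groth.Agent.H52.Ass.RedMod
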